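import Cfsg.Agent.H960.HT.Fin
import Cfsg.Agent.PermutationGroups.AutQuaternion
import Cfsg.Agent.Lib.AutSL2Out
import Cfsg.Agent.S0144
import Cfsg.Prelude.Def_LieChev
import Cfsg.Prelude.Def_Classical

/-! `HerHyp` from Hering's theorem S3695 and Feit–Thompson. -/

set_option autoImplicit false
set_option linter.unusedSectionVars false
set_option linter.unusedVariables false

namespace Cfsg.Agent.H960.HT

open MulAction Cfsg.Agent.H828.HT
open scoped commutatorElement

universe u

/-- the statement S3695 for `K : Type` -/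
def HerStmt : Prop := ∀ {K : Type} {V : Type u} [Field K] [Fintype K] [AddCommGroup V] [Module K V] [Finite V]
    (q n : ℕ) (hq : Fintype.card K = q) (hn : Module.finrank K V = n) (h1 : 1 ≤ n)
    (H : Subgroup (Equiv.Perm V)) (hadd : ∀ h ∈ H, ∀ v w : V, h (v + w) = h v + h w)
    (hsemi : ∀ h ∈ H, ∃ σ : K ≃+* K, ∀ (c : K) (v : V), h (c • v) = σ c • h v)
    (htrans : ∀ v w : V, v ≠ 0 → w ≠ 0 → ∃ h ∈ H, ∃ c : K, h v = c • w),
    (∃ (a b : ℕ) (F : Type) (_ : Field F) (_ : Fintype F), a * b = n ∧ Fintype.card F = q ^ b ∧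
      ∃ N : Subgroup H, N.Normal ∧
        ((2 ≤ a ∧ Nonempty (N ≃* Matrix.SpecialLinearGroup (Fin a) F)) ∨
         (∃ m : ℕ, a = 2 * m ∧ 1 ≤ m ∧ Nonempty (N ≃* Matrix.symplecticGroup (Fin m) F)) ∨
         (a = 6 ∧ q % 2 = 0 ∧ 4 ≤ Fintype.card F ∧ Nonempty (N ≃* Cfsg.Lie.chevG2.group F)) ∨
         (a = 6 ∧ Fintype.card F = 2 ∧ ∃ (E : Type) (_ : Field E) (_ : Fintype E), Fintype.card E = 9 ∧ Nonempty (N ≃* Cfsg.PSU 3 E 3)))) ∨
    (∃ (F : Type) (_ : Field F) (_ : Fintype F) (e : V ≃+ F), Fintype.card F = q ^ n ∧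
      ∀ h ∈ H, ∃ (c : F) (σ : F ≃+* F), ∀ v : V, e (h v) = c * σ (e v)) ∨
    (n = 2 ∧ (q = 5 ∨ q = 7 ∨ q = 11 ∨ q = 23) ∧ ∃ N : Subgroup H, N.Normal ∧ Nonempty (N ≃* QuaternionGroup 2)) ∨
    (n = 2 ∧ (q = 9 ∨ q = 11 ∨ q = 19 ∨ q = 29 ∨ q = 59) ∧
      ∃ N : Subgroup H, N.Normal ∧ Nonempty (N ≃* Matrix.SpecialLinearGroup (Fin 2) (ZMod 5))) ∨
    (n = 4 ∧ q = 2 ∧ (Nonempty (H ≃* alternatingGroup (Fin 6)) ∨ Nonempty (H ≃* alternatingGroup (Fin 7)))) ∨
    (n = 4 ∧ q = 3 ∧ ((∃ N : Subgroup H, N.Normal ∧ Nat.card N = 32 ∧ Nat.card H ∣ 32 * 120) ∨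
      ∃ N : Subgroup H, N.Normal ∧ Nonempty (N ≃* Matrix.SpecialLinearGroup (Fin 2) (ZMod 5)))) ∨
    (n = 6 ∧ q = 3 ∧ Nonempty (H ≃* Matrix.SpecialLinearGroup (Fin 2) (ZMod 13)))

/-- transvections have order `p` -/
theorem dvd_card_sl {p : ℕ} [Fact p.Prime] {F : Type} [Field F] [Fintype F] [CharP F p] {a : ℕ} (ha : 2 ≤ a) :
    p ∣ Nat.card (Matrix.SpecialLinearGroup (Fin a) F) := by
  classical
  let i : Fin a := ⟨0, by omega⟩
  let j : Fin a := ⟨1, by omega⟩
  have hij : i ≠ j := by simp [i, j]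
  have hmul : ∀ c d : F, Matrix.transvection i j c * Matrix.transvection i j d = Matrix.transvection i j (c + d) :=
    fun c d => Matrix.transvection_mul_transvection_same i j hij c d
  let f : Multiplicative F →* Matrix.SpecialLinearGroup (Fin a) F :=
    { toFun := fun c => ⟨Matrix.transvection i j (Multiplicative.toAdd c), Matrix.det_transvection_of_ne i j hij _⟩
      map_one' := by
        apply Subtype.ext
        change Matrix.transvection i j (0 : F) = 1
        exact Matrix.transvection_zero i j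
      map_mul' := by
        intro x y
        apply Subtype.ext
        exact (hmul _ _).symm }
  have hf : Function.Injective f := by
    intro x y h
    have h1 : Matrix.transvection i j (Multiplicative.toAdd x) = Matrix.transvection i j (Multiplicative.toAdd y) :=
      congrArg Subtype.val h
    have h2 := congrFun (congrFun h1 i) j
    simp [Matrix.transvection, Matrix.one_apply_ne hij] at h2
    exact h2
  have h1 := Subgroup.card_dvd_of_injective f hf
  refine dvd_trans ?_ h1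
  have h2 : Nat.card (Multiplicative F) = Fintype.card F :=
    (Nat.card_congr Multiplicative.toAdd).trans Nat.card_eq_fintype_card
  rw [h2]
  obtain ⟨n, hp, hn⟩ := FiniteField.card F p
  rw [hn]
  exact dvd_pow_self p n.pos.ne'

theorem dvd_card_sp {p : ℕ} [Fact p.Prime] {F : Type} [Field F] [Fintype F] [CharP F p] {m : ℕ} (hm : 1 ≤ m) :
    p ∣ Nat.card (Matrix.symplecticGroup (Fin m) F) := by
  classical
  let A : F → Matrix (Fin m ⊕ Fin m) (Fin m ⊕ Fin m) F := fun c => Matrix.fromBlocks 1 (c • 1) 0 1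
  have hA : ∀ c, A c ∈ Matrix.symplecticGroup (Fin m) F := by
    intro c
    rw [SymplecticGroup.mem_iff]
    simp [A, Matrix.J, Matrix.fromBlocks_multiply, Matrix.fromBlocks_transpose]
  have hmul : ∀ c d : F, A c * A d = A (c + d) := by
    intro c d
    simp [A, Matrix.fromBlocks_multiply, add_smul, add_comm]
  let f : Multiplicative F →* Matrix.symplecticGroup (Fin m) F :=
    { toFun := fun c => ⟨A (Multiplicative.toAdd c), hA _⟩
      map_one' := by
        apply Subtype.ext
        change A 0 = 1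
        simp [A, Matrix.fromBlocks_one]
      map_mul' := by
        intro x y
        apply Subtype.ext
        exact (hmul _ _).symm }
  have hf : Function.Injective f := by
    intro x y h
    have h1 : A (Multiplicative.toAdd x) = A (Multiplicative.toAdd y) := congrArg Subtype.val h
    have h2 := congrFun (congrFun h1 (Sum.inl ⟨0, hm⟩)) (Sum.inr ⟨0, hm⟩)
    simp [A] at h2
    exact h2
  have h1 := Subgroup.card_dvd_of_injective f hf
  refine dvd_trans ?_ h1
  have h2 : Nat.card (Multiplicative F) = Fintype.card F :=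
    (Nat.card_congr Multiplicative.toAdd).trans Nat.card_eq_fintype_card
  rw [h2]
  obtain ⟨n, hp, hn⟩ := FiniteField.card F p
  rw [hn]
  exact dvd_pow_self p n.pos.ne'

/-- one-dimensional semilinear groups are soluble -/
theorem solvable_gamma {U : Type u} [AddCommGroup U] {F : Type} [Field F] [Fintype F] (e : U ≃+ F)
    (H : Subgroup (Equiv.Perm U)) (hH : ∀ h ∈ H, ∃ (c : F) (σ : F ≃+* F), ∀ v : U, e (h v) = c * σ (e v)) :
    Group.IsSolvable H := by
  classical
  have hne : ∀ h : H, ∀ (c : F) (σ : F ≃+* F), (∀ v : U, e (h.1 v) = c * σ (e v)) → c ≠ 0 := by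
    intro h c σ hc h0
    subst h0
    have h1 : ∀ v w : U, v = w := by
      intro v w
      apply h.1.injective
      apply e.injective
      rw [hc, hc, zero_mul, zero_mul]
    have h2 := h1 (e.symm 1) (e.symm 0)
    exact one_ne_zero (e.symm.injective h2)
  let K : Subgroup H :=
    { carrier := {h | ∃ c : F, ∀ v : U, e (h.1 v) = c * e v}
      one_mem' := ⟨1, fun v => by rw [one_mul]; rfl⟩
      mul_mem' := by
        rintro a b ⟨c, hc⟩ ⟨d, hd⟩
        refine ⟨c * d, fun v => ?_⟩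
        change e (a.1 (b.1 v)) = _
        rw [hc, hd, mul_assoc]
      inv_mem' := by
        rintro a ⟨c, hc⟩
        have hc0 := hne a c (RingEquiv.refl F) (fun v => by rw [hc]; rfl)
        refine ⟨c⁻¹, fun v => ?_⟩
        have h1 := hc ((a⁻¹ : H).1 v)
        have h2 : a.1 ((a⁻¹ : H).1 v) = v := by
          change (a * a⁻¹ : H).1 v = v
          rw [mul_inv_cancel]; rfl
        rw [h2] at h1
        rw [h1, inv_mul_cancel_left₀ hc0] }
  have hcomm : ∀ a b : H, ⁅a, b⁆ ∈ K := by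
    intro a b
    obtain ⟨c, σ, hc⟩ := hH a.1 a.2
    obtain ⟨d, τ, hd⟩ := hH b.1 b.2
    have hc0 := hne a c σ hc
    have hd0 := hne b d τ hd
    -- `a b = k b a`
    refine ⟨c * σ d * (d * τ c)⁻¹, fun v => ?_⟩
    have h1 : ∀ w, e ((a * b : H).1 w) = c * σ d * (d * τ c)⁻¹ * e ((b * a : H).1 w) := by
      intro w
      change e (a.1 (b.1 w)) = _ * e (b.1 (a.1 w))
      rw [hc, hd, hd, hc, map_mul, map_mul]
      have h2 : σ (τ (e w)) = τ (σ (e w)) := by
        have := Cfsg.Agent.Lib.AutSL2Out.ringEquiv_comm σ τ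
        exact congrArg (fun f : F ≃+* F => f (e w)) this
      rw [h2]
      have hx : d * τ c ≠ 0 := mul_ne_zero hd0 ((map_ne_zero τ).2 hc0)
      have hτc : τ c ≠ 0 := (map_ne_zero τ).2 hc0
      field_simp
    have h3 := h1 ((b * a : H)⁻¹.1 v)
    have h4 : (b * a : H).1 ((b * a : H)⁻¹.1 v) = v := by
      change ((b * a) * (b * a)⁻¹ : H).1 v = v
      rw [mul_inv_cancel]; rfl
    rw [h4] at h3
    rw [← h3]
    have h5 : (⁅a, b⁆ : H) = (a * b) * (b * a)⁻¹ := by rw [commutatorElement_def]; group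
    rw [h5]
    rfl
  have hKn : K.Normal := by
    constructor
    intro k hk g
    have : g * k * g⁻¹ = ⁅g, k⁆ * k := by rw [commutatorElement_def]; group
    rw [this]
    exact K.mul_mem (hcomm g k) hk
  have h1 : Group.IsSolvable K := by
    refine Group.isSolvable_of_comm ?_
    rintro ⟨a, c, hc⟩ ⟨b, d, hd⟩
    apply Subtype.ext
    apply Subtype.ext
    apply Equiv.ext
    intro v
    apply e.injective
    change e (a.1 (b.1 v)) = e (b.1 (a.1 v))
    rw [hc, hd, hd, hc]
    ring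
  have h2 : Group.IsSolvable (H ⧸ K) := by
    refine Group.isSolvable_of_comm ?_
    intro x y
    obtain ⟨x, rfl⟩ := QuotientGroup.mk_surjective x
    obtain ⟨y, rfl⟩ := QuotientGroup.mk_surjective y
    rw [← QuotientGroup.mk_mul, ← QuotientGroup.mk_mul, eq_comm, QuotientGroup.eq]
    have := hcomm x⁻¹ y⁻¹
    rw [commutatorElement_def] at this
    have e1 : (y * x)⁻¹ * (x * y) = x⁻¹ * y⁻¹ * x⁻¹⁻¹ * y⁻¹⁻¹ := by group
    rw [e1]; exact this
  refine Group.isSolvable_of_ker_le_range K.subtype (QuotientGroup.mk' K) ?_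
  rw [QuotientGroup.ker_mk', Subgroup.range_subtype]

/-- an element of order 3 -/
theorem three_dvd_sl (R : Type) [CommRing R] [Nontrivial R] [Finite R] :
    3 ∣ Nat.card (Matrix.SpecialLinearGroup (Fin 2) R) := by
  classical
  let A : Matrix.SpecialLinearGroup (Fin 2) R := ⟨!![0, -1; 1, -1], by rw [Matrix.det_fin_two_of]; ring⟩
  have h3 : A ^ 3 = 1 := by
    apply Subtype.ext
    change (!![0, -1; 1, -1] : Matrix (Fin 2) (Fin 2) R) ^ 3 = 1
    rw [pow_succ, pow_two]
    ext i j
    fin_cases i <;> fin_cases j <;> simp [Matrix.mul_apply, Fin.sum_univ_two]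
  have h1 : A ≠ 1 := by
    intro h
    have h1 : (!![0, -1; 1, -1] : Matrix (Fin 2) (Fin 2) R) = 1 := congrArg Subtype.val h
    have h2 := congrFun (congrFun h1 1) 0
    simp at h2
  have : Fact (Nat.Prime 3) := ⟨Nat.prime_three⟩
  have h2 : orderOf A = 3 := orderOf_eq_prime h3 h1
  rw [← h2]
  exact orderOf_dvd_natCard A

section lin

variable {p : ℕ} [Fact p.Prime] {U : Type u} [AddCommGroup U] [Module (ZMod p) U] [Finite U]

/-- additive permutations are linear -/
def lin (H : Subgroup (Equiv.Perm U)) (hadd : ∀ h ∈ H, ∀ v w : U, h (v + w) = h v + h w) :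
    H →* (U ≃ₗ[ZMod p] U) where
  toFun h :=
    { toFun := h.1
      invFun := h.1.symm
      left_inv := h.1.left_inv
      right_inv := h.1.right_inv
      map_add' := hadd _ h.2
      map_smul' := fun c x => ZMod.map_smul (AddMonoidHom.mk' h.1 (hadd _ h.2)) c x }
  map_one' := rfl
  map_mul' _ _ := rfl

theorem lin_apply (H : Subgroup (Equiv.Perm U)) (hadd : ∀ h ∈ H, ∀ v w : U, h (v + w) = h v + h w) (h : H) (v : U) :
    lin (p := p) H hadd h v = h.1 v := rfl

theorem lin_injective (H : Subgroup (Equiv.Perm U)) (hadd : ∀ h ∈ H, ∀ v w : U, h (v + w) = h v + h w) :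
    Function.Injective (lin (p := p) H hadd) := by
  intro a b h
  apply Subtype.ext
  apply Equiv.ext
  intro v
  exact congrArg (fun f : U ≃ₗ[ZMod p] U => f v) h

/-- a `p'`-group in dimension 2 that is not commutative is irreducible -/
theorem irr_of_dim_two {N : Subgroup (U ≃ₗ[ZMod p] U)} (h2 : Module.finrank (ZMod p) U = 2) (hp : ¬ p ∣ Nat.card N)
    (hnc : ∃ a ∈ N, ∃ b ∈ N, a * b ≠ b * a) : Irr N := by
  classical
  intro W hW
  by_contra hcon
  push Not at hcon
  obtain ⟨K, hK, hKi⟩ := exists_compl hp hW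
  have hW0 : 0 < Module.finrank (ZMod p) W := by
    rw [Module.finrank_pos_iff, Submodule.nontrivial_iff_ne_bot]
    exact hcon.1
  have hK0 : 0 < Module.finrank (ZMod p) K := by
    rw [Module.finrank_pos_iff, Submodule.nontrivial_iff_ne_bot]
    rintro rfl
    apply hcon.2
    have := hK.sup_eq_top
    rwa [sup_bot_eq] at this
  have hsum := Submodule.finrank_add_eq_of_isCompl hK
  have hW1 : Module.finrank (ZMod p) W = 1 := by omega
  have hK1 : Module.finrank (ZMod p) K = 1 := by omega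
  have key : ∀ (M : Submodule (ZMod p) U), Module.finrank (ZMod p) M = 1 → (∀ g ∈ N, ∀ v ∈ M, g v ∈ M) →
      ∀ a ∈ N, ∀ b ∈ N, ∀ v ∈ M, a (b v) = b (a v) := by
    intro M hM hMi a ha b hb v hv
    obtain ⟨m, hm, hspan⟩ := finrank_eq_one_iff'.1 hM
    have hsc : ∀ g ∈ N, ∃ c : ZMod p, ∀ x ∈ M, g x = c • x := by
      intro g hg
      obtain ⟨c, hc⟩ := hspan ⟨g m.1, hMi g hg _ m.2⟩
      refine ⟨c, fun x hx => ?_⟩
      obtain ⟨d, hd⟩ := hspan ⟨x, hx⟩
      have hd' : d • (m : U) = x := congrArg Subtype.val hd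
      have hc' : c • (m : U) = g m.1 := congrArg Subtype.val hc
      rw [← hd', map_smul, ← hc', smul_comm]
    obtain ⟨c, hc⟩ := hsc a ha
    obtain ⟨d, hd⟩ := hsc b hb
    rw [hd v hv, hc v hv, map_smul, map_smul, hc v hv, hd v hv, smul_comm]
  obtain ⟨a, ha, b, hb, hab⟩ := hnc
  apply hab
  apply LinearEquiv.ext
  intro v
  obtain ⟨w, hw, k, hk, rfl⟩ : ∃ w ∈ W, ∃ k ∈ K, w + k = v := by
    have : v ∈ W ⊔ K := by rw [hK.sup_eq_top]; trivial
    exact Submodule.mem_sup.1 this
  change a (b (w + k)) = b (a (w + k))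
  rw [map_add, map_add, map_add, map_add, key W hW1 hW a ha b hb w hw, key K hK1 hKi a ha b hb k hk]

/-- dimension 2 with a normal quaternion group: soluble -/
theorem solvable_of_q8 [Nontrivial U] (H : Subgroup (Equiv.Perm U))
    (hadd : ∀ h ∈ H, ∀ v w : U, h (v + w) = h v + h w)
    (h2 : Module.finrank (ZMod p) U = 2) (hp : ¬ p ∣ Nat.card H) (N : Subgroup H) (hN : N.Normal)
    (e : N ≃* QuaternionGroup 2) : Group.IsSolvable H := by
  classical
  let N' : Subgroup (U ≃ₗ[ZMod p] U) := N.map (lin H hadd)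
  have hcard : Nat.card N' = Nat.card N :=
    Nat.card_congr (N.equivMapOfInjective _ (lin_injective H hadd)).toEquiv.symm
  have hp' : ¬ p ∣ Nat.card N' := by
    rw [hcard]
    exact fun h => hp (h.trans (Subgroup.card_subgroup_dvd_card N))
  have hirr : Irr N' := by
    refine irr_of_dim_two h2 hp' ?_
    refine ⟨lin H hadd (e.symm (QuaternionGroup.a 1)), Subgroup.mem_map_of_mem _ (e.symm _).2,
      lin H hadd (e.symm (QuaternionGroup.xa 0)), Subgroup.mem_map_of_mem _ (e.symm _).2, ?_⟩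
    intro h
    rw [← map_mul, ← map_mul] at h
    have h1 := lin_injective H hadd h
    have h3 : (e.symm (QuaternionGroup.a 1) * e.symm (QuaternionGroup.xa 0) : N) =
        e.symm (QuaternionGroup.xa 0) * e.symm (QuaternionGroup.a 1) := Subtype.ext h1
    rw [← map_mul, ← map_mul] at h3
    have h4 := e.symm.injective h3
    revert h4
    decide
  -- the centraliser
  let c : H →* MulAut N := MulAut.conjNormal
  have hker : Group.IsSolvable c.ker := by
    refine Group.isSolvable_of_comm ?_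
    rintro ⟨a, ha⟩ ⟨b, hb⟩
    have hc : ∀ a : H, a ∈ c.ker → ∀ l ∈ N', lin (p := p) H hadd a * l = l * lin H hadd a := by
      rintro a ha _ ⟨n, hn, rfl⟩
      rw [← map_mul, ← map_mul]
      congr 1
      have h5 : c a = 1 := ha
      have h6 := congrArg (fun f : MulAut N => ((f ⟨n, hn⟩ : N) : H)) h5
      have h7 : a * n * a⁻¹ = n := by
        simpa [c, MulAut.conjNormal_apply] using h6
      rw [mul_inv_eq_iff_eq_mul] at h7
      exact h7
    have h8 := cent_comm hirr (hc a ha) (hc b hb)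
    rw [← map_mul, ← map_mul] at h8
    apply Subtype.ext
    exact lin_injective H hadd h8
  have hrange : Group.IsSolvable (MulAut N) := by
    have h9 : Nat.card (MulAut N) = 2 ^ 3 * 3 ^ 1 := by
      rw [Nat.card_congr (MulAut.congr e).toEquiv, Cfsg.Agent.PermutationGroups.AutQuaternion.card_mulAut]
      norm_num
    have : Finite (MulAut N) := Nat.finite_of_card_ne_zero (by rw [h9]; norm_num)
    exact Cfsg.Agent.S0144.result 2 3 3 1 Nat.prime_two Nat.prime_three h9
  refine Group.isSolvable_of_ker_le_range c.ker.subtype c ?_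
  rw [Subgroup.range_subtype]

end lin

/-- **`HerHyp` from the statement S3695 and Feit–Thompson.** -/
theorem herHyp_of (hH : HerStmt.{u}) (hFT : FT.{u}) : HerHyp.{u} := by
  intro p _ U _ _ _ _ H hadd htr hp hins
  classical
  have hp2 : p ≠ 2 := by
    rintro rfl
    apply hins
    apply hFT
    rw [← Nat.not_even_iff_odd, even_iff_two_dvd]
    exact hp
  have hpr := (Fact.out : p.Prime)
  have h1 : 1 ≤ Module.finrank (ZMod p) U := Module.finrank_pos
  have hN : ∀ N : Subgroup H, ¬ p ∣ Nat.card N :=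
    fun N h => hp (h.trans (Subgroup.card_subgroup_dvd_card N))
  rcases hH (K := ZMod p) (V := U) p (Module.finrank (ZMod p) U) (ZMod.card p) rfl h1 H hadd
    (fun h hh => ⟨RingEquiv.refl _, fun c v => ZMod.map_smul (AddMonoidHom.mk' h (hadd _ hh)) c v⟩)
    (fun v w hv hw => by
      obtain ⟨h, hh, hvw⟩ := htr v w hv hw
      exact ⟨h, hh, 1, by rw [hvw, one_smul]⟩) with
    ⟨a, b, F, _, _, hab, hF, N, hNn, hcase⟩ | ⟨F, _, _, e, hF, he⟩ | ⟨hn2, hq, N, hNn, ⟨e⟩⟩ |
    ⟨hn2, hq, N, hNn, he⟩ | ⟨hn4, hq, -⟩ | ⟨hn4, hq, hcase⟩ | ⟨hn6, hq, ⟨e⟩⟩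
  · have : CharP F p := charP_of_card_eq_prime_pow hF
    rcases hcase with ⟨ha, ⟨e⟩⟩ | ⟨m, ham, hm, ⟨e⟩⟩ | ⟨-, hq2, -⟩ | ⟨-, h2, -⟩
    · exfalso
      apply hN N
      rw [Nat.card_congr e.toEquiv]
      exact dvd_card_sl ha
    · exfalso
      apply hN N
      rw [Nat.card_congr e.toEquiv]
      exact dvd_card_sp hm
    · exfalso
      exact hp2 ((Nat.prime_dvd_prime_iff_eq Nat.prime_two hpr).1 (Nat.dvd_of_mod_eq_zero hq2)).symm
    · exfalso
      rw [h2] at hF
      have hb : b ≠ 0 := by rintro rfl; norm_num at hF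
      have : p ∣ 2 := by rw [hF]; exact dvd_pow_self p hb
      exact hp2 ((Nat.prime_dvd_prime_iff_eq hpr Nat.prime_two).1 this)
  · exact absurd (solvable_gamma e H he) hins
  · exact absurd (solvable_of_q8 (p := p) H hadd hn2 hp N hNn e) hins
  · refine ⟨hn2, ?_, N, hNn, he⟩
    rcases hq with rfl | h
    · exfalso; revert hpr; norm_num
    · exact h
  · exact absurd hq hp2
  · exfalso
    subst hq
    rcases hcase with ⟨N, -, -, hd⟩ | ⟨N, hNn, ⟨e⟩⟩
    · apply hins
      have h3 : Nat.Coprime (Nat.card H) 3 := by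
        rw [Nat.coprime_comm, Nat.Prime.coprime_iff_not_dvd Nat.prime_three]
        exact hp
      have h4 : Nat.card H ∣ 2 ^ 8 * 5 ^ 1 := by
        have h5 : Nat.card H ∣ 2 ^ 8 * 5 ^ 1 * 3 := by
          have : 32 * 120 = 2 ^ 8 * 5 ^ 1 * 3 := by norm_num
          rw [← this]; exact hd
        exact h3.dvd_of_dvd_mul_right h5
      obtain ⟨d₁, d₂, h6, h7, h8⟩ := exists_dvd_and_dvd_of_dvd_mul h4
      obtain ⟨i, -, rfl⟩ := (Nat.dvd_prime_pow Nat.prime_two).mp h6
      obtain ⟨j, -, rfl⟩ := (Nat.dvd_prime_pow Nat.prime_five).mp h7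
      exact Cfsg.Agent.S0144.result 2 5 i j Nat.prime_two Nat.prime_five h8
    · apply hN N
      rw [Nat.card_congr e.toEquiv]
      have : Fact (Nat.Prime 5) := ⟨Nat.prime_five⟩
      exact three_dvd_sl (ZMod 5)
  · exfalso
    subst hq
    apply hp
    rw [Nat.card_congr e.toEquiv]
    have : Fact (Nat.Prime 13) := ⟨by norm_num⟩
    exact three_dvd_sl (ZMod 13)

end Cfsg.Agent.H960.HT
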