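import Cfsg.Agent.H960.HT.TwoF

/-! Imprimitive half-transitive coprime linear groups are soluble (or semiregular). -/

set_option autoImplicit false
set_option linter.unusedSectionVars false

namespace Cfsg.Agent.H960.HT

open MulAction Cfsg.Agent.H828.HT

universe u


theorem three_pow_gt (j : ℕ) : 2 * (j + 6) ^ 2 < 3 ^ (j + 4) := by
  induction j with
  | zero => norm_num
  | succ j ih =>
    rw [show j + 1 + 4 = (j + 4) + 1 from rfl, pow_succ 3 (j + 4)]
    have := Nat.zero_le (j * j)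
    nlinarith

theorem num_k {p n k m : ℕ} (hp : p.Prime) (hp2 : p ≠ 2) (hn : 1 ≤ n) (hk : 3 ≤ k)
    (h1 : m ∣ k * (p ^ n - 1)) (h2 : m ∣ (p ^ n) ^ k - 1) (h3 : (p ^ n) ^ k ≤ 2 * m ^ 2) : n = 1 ∧ k ≤ 4 := by
  have hp3 : 3 ≤ p := by have := hp.two_le; omega
  have hq3 : 3 ≤ p ^ n := le_trans hp3 (by simpa using Nat.pow_le_pow_right hp.pos hn)
  have hm : m ≤ k * (p ^ n - 1) := Nat.le_of_dvd (Nat.mul_pos (by omega) (by omega)) h1
  -- small `q` forces `n = 1` or `q = 9`
  have hsm : p ^ n ≤ 15 → n = 1 ∨ (p = 3 ∧ n = 2) := by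
    intro h15
    by_cases hn1 : n = 1
    · exact Or.inl hn1
    right
    have h9 : p ^ 2 ≤ 15 := le_trans (Nat.pow_le_pow_right hp.pos (by omega)) h15
    have hp' : p = 3 := by nlinarith
    subst hp'
    refine ⟨rfl, ?_⟩
    by_contra hne
    have : 3 ^ 3 ≤ 3 ^ n := Nat.pow_le_pow_right (by norm_num) (by omega)
    omega
  obtain ⟨q, hq⟩ : ∃ q, p ^ n = q := ⟨_, rfl⟩
  rw [hq] at h1 h2 h3 hm hq3 hsm
  obtain ⟨r, rfl⟩ : ∃ r, q = r + 1 := ⟨q - 1, by omega⟩
  simp only [Nat.add_sub_cancel] at h1 hm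
  rcases Nat.lt_or_ge k 6 with hk6 | hk6
  · interval_cases k
    · -- `k = 3`
      have hr : r + 1 ≤ 15 := by
        by_contra hc
        push Not at hc
        have h4 : m ^ 2 ≤ (3 * r) ^ 2 := Nat.pow_le_pow_left hm 2
        nlinarith
      rcases hsm hr with h | ⟨rfl, rfl⟩
      · exact ⟨h, by norm_num⟩
      · exfalso
        have hr8 : r = 8 := by omega
        subst hr8
        have h5 : m ∣ Nat.gcd (3 * 8) ((8 + 1) ^ 3 - 1) := Nat.dvd_gcd h1 h2
        have h6 : Nat.gcd (3 * 8) ((8 + 1) ^ 3 - 1) = 8 := by norm_num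
        rw [h6] at h5
        have h7 := Nat.le_of_dvd (by norm_num) h5
        nlinarith
    · -- `k = 4`
      have hr : r + 1 ≤ 4 := by
        by_contra hc
        push Not at hc
        have h4 : m ^ 2 ≤ (4 * r) ^ 2 := Nat.pow_le_pow_left hm 2
        have h5 : (r + 1) ^ 4 ≤ 32 * r ^ 2 := by nlinarith
        have h6 : 32 * r ^ 2 < (r + 1) ^ 4 := by
          have : 4 ≤ r := by omega
          nlinarith [sq_nonneg (r : ℤ), Nat.mul_le_mul this this, pow_pos (show 0 < r by omega) 3]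
        omega
      rcases hsm (by omega) with h | ⟨rfl, rfl⟩
      · exact ⟨h, by norm_num⟩
      · omega
    · exfalso
      have h4 : m ^ 2 ≤ (5 * r) ^ 2 := Nat.pow_le_pow_left hm 2
      have h5 : (r + 1) ^ 5 ≤ 50 * r ^ 2 := by nlinarith
      have h6 : 50 * r ^ 2 < (r + 1) ^ 5 := by
        have h2r : 2 ≤ r := by omega
        have e1 : 27 * (r + 1) ^ 2 ≤ (r + 1) ^ 5 := by
          have : 3 ^ 3 ≤ (r + 1) ^ 3 := Nat.pow_le_pow_left (by omega) 3
          calc 27 * (r + 1) ^ 2 = 3 ^ 3 * (r + 1) ^ 2 := by norm_num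
            _ ≤ (r + 1) ^ 3 * (r + 1) ^ 2 := Nat.mul_le_mul_right _ this
            _ = (r + 1) ^ 5 := by ring
        rcases Nat.lt_or_ge r 3 with h | h
        · have : r = 2 := by omega
          subst this; norm_num
        · have : 4 ^ 3 ≤ (r + 1) ^ 3 := Nat.pow_le_pow_left (by omega) 3
          have e2 : 64 * (r + 1) ^ 2 ≤ (r + 1) ^ 5 := by
            calc 64 * (r + 1) ^ 2 = 4 ^ 3 * (r + 1) ^ 2 := by norm_num
              _ ≤ (r + 1) ^ 3 * (r + 1) ^ 2 := Nat.mul_le_mul_right _ this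
              _ = (r + 1) ^ 5 := by ring
          nlinarith
      omega
  · exfalso
    obtain ⟨j, rfl⟩ : ∃ j, k = j + 6 := ⟨k - 6, by omega⟩
    have h4 : m ^ 2 ≤ ((j + 6) * r) ^ 2 := Nat.pow_le_pow_left hm 2
    have h5 : (r + 1) ^ (j + 6) ≤ (2 * (j + 6) ^ 2) * r ^ 2 := by
      calc (r + 1) ^ (j + 6) ≤ 2 * m ^ 2 := h3
        _ ≤ 2 * ((j + 6) * r) ^ 2 := Nat.mul_le_mul_left _ h4
        _ = (2 * (j + 6) ^ 2) * r ^ 2 := by ring
    have h6 : (3 : ℕ) ^ (j + 4) ≤ (r + 1) ^ (j + 4) := Nat.pow_le_pow_left (by omega) _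
    have h7 := three_pow_gt j
    have h8 : (2 * (j + 6) ^ 2) * r ^ 2 < (r + 1) ^ (j + 6) := by
      calc (2 * (j + 6) ^ 2) * r ^ 2 < (r + 1) ^ (j + 4) * r ^ 2 :=
            Nat.mul_lt_mul_of_pos_right (lt_of_lt_of_le h7 h6) (pow_pos (by omega) 2)
        _ ≤ (r + 1) ^ (j + 4) * (r + 1) ^ 2 := Nat.mul_le_mul_left _ (Nat.pow_le_pow_left (by omega) 2)
        _ = (r + 1) ^ (j + 6) := by rw [← pow_add]
    omega

variable {p : ℕ} [Fact p.Prime] {V : Type u} [AddCommGroup V] [Module (ZMod p) V] [Finite V]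

/-- A system of imprimitivity. -/
structure Sys (G : Subgroup (V ≃ₗ[ZMod p] V)) (B : Set (Submodule (ZMod p) V)) : Prop where
  ne : ∀ X ∈ B, X ≠ ⊥
  ind : sSupIndep B
  perm : ∀ g ∈ G, ∀ X ∈ B, X.map (g : V →ₗ[ZMod p] V) ∈ B
  nt : B.Nontrivial

namespace Sys

variable {G : Subgroup (V ≃ₗ[ZMod p] V)} {B : Set (Submodule (ZMod p) V)}

theorem iSup_top (H : Sys G B) (hirr : Irr G) {C : Set (Submodule (ZMod p) V)} (hC : C ⊆ B) (hne : C.Nonempty)
    (hinv : ∀ g ∈ G, ∀ X ∈ C, X.map (g : V →ₗ[ZMod p] V) ∈ C) : sSup C = ⊤ := by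
  rcases hirr (sSup C) (by
    intro g hg v hv
    have h1 : (sSup C).map (g : V →ₗ[ZMod p] V) ≤ sSup C := by
      rw [sSup_eq_iSup, Submodule.map_iSup]
      refine iSup_le fun X => ?_
      rw [Submodule.map_iSup]
      refine iSup_le fun hX => ?_
      rw [← sSup_eq_iSup]
      exact le_sSup (hinv g hg X hX)
    exact h1 ⟨v, hv, rfl⟩) with h | h
  · exfalso
    obtain ⟨X, hX⟩ := hne
    apply H.ne X (hC hX)
    rw [eq_bot_iff, ← h]
    exact le_sSup hX
  · exact h

/-- the blocks are permuted transitively -/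
theorem trans (H : Sys G B) (hirr : Irr G) {X Y : Submodule (ZMod p) V} (hX : X ∈ B) (hY : Y ∈ B) :
    ∃ g ∈ G, X.map (g : V →ₗ[ZMod p] V) = Y := by
  by_contra hcon
  push Not at hcon
  set C : Set (Submodule (ZMod p) V) := {Z | ∃ g ∈ G, X.map (g : V →ₗ[ZMod p] V) = Z} with hCdef
  have h1 : sSup C = ⊤ := by
    refine H.iSup_top hirr ?_ ⟨X, 1, G.one_mem, ?_⟩ ?_
    · rintro _ ⟨g, hg, rfl⟩
      exact H.perm g hg X hX
    · exact Submodule.map_id X
    · rintro g hg _ ⟨k, hk, rfl⟩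
      refine ⟨g * k, G.mul_mem hg hk, ?_⟩
      rw [← Submodule.map_comp]
      rfl
  have h2 : Y ∉ C := fun ⟨g, hg, h⟩ => hcon g hg h
  have h3 : C ⊆ B \ {Y} := by
    rintro Z hZ
    refine ⟨?_, fun h => h2 (h ▸ hZ)⟩
    obtain ⟨g, hg, rfl⟩ := hZ
    exact H.perm g hg X hX
  have h4 := H.ind hY
  have h5 : sSup (B \ {Y}) = ⊤ := by
    rw [eq_top_iff, ← h1]
    exact sSup_le_sSup h3
  rw [h5, disjoint_top] at h4
  exact H.ne Y hY h4

theorem card_block (H : Sys G B) (hirr : Irr G) {X Y : Submodule (ZMod p) V} (hX : X ∈ B) (hY : Y ∈ B) :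
    Module.finrank (ZMod p) X = Module.finrank (ZMod p) Y := by
  obtain ⟨g, _, rfl⟩ := H.trans hirr hX hY
  exact (LinearEquiv.finrank_map_eq g X).symm

theorem finrank_eq (H : Sys G B) (hirr : Irr G) {n : ℕ} (hn : ∀ X ∈ B, Module.finrank (ZMod p) X = n) :
    Module.finrank (ZMod p) V = B.ncard * n := by
  classical
  have hBf : B.Finite := Set.toFinite B
  have : Fintype B := hBf.fintype
  have h1 : iSupIndep (fun X : B => X.1) := (sSupIndep_iff B).1 H.ind
  have h2 : ⨆ X : B, X.1 = ⊤ := by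
    rw [← sSup_eq_iSup']
    exact H.iSup_top hirr subset_rfl H.nt.nonempty H.perm
  have h3 := DirectSum.isInternal_submodule_of_iSupIndep_of_iSup_eq_top h1 h2
  have e := LinearEquiv.ofBijective (DirectSum.coeLinearMap (fun X : B => X.1)) h3
  rw [← e.finrank_eq, Module.finrank_directSum]
  rw [Finset.sum_congr rfl (fun X _ => hn X.1 X.2), Finset.sum_const, Finset.card_univ, smul_eq_mul,
    ← Nat.card_eq_fintype_card, Nat.card_coe_set_eq]

/-- the union of the blocks -/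
theorem card_union (H : Sys G B) {n : ℕ} (hn : ∀ X ∈ B, Module.finrank (ZMod p) X = n) :
    Nat.card {v : V | v ≠ 0 ∧ ∃ X ∈ B, v ∈ X} = B.ncard * (p ^ n - 1) := by
  classical
  have hBf : B.Finite := Set.toFinite B
  have : Fintype B := hBf.fintype
  have huniq : ∀ X ∈ B, ∀ Y ∈ B, ∀ v ∈ X, v ∈ Y → v ≠ 0 → X = Y := by
    intro X hX Y hY v hvX hvY hv
    by_contra hne
    have h1 := H.ind.pairwiseDisjoint hX hY hne
    exact hv ((Submodule.disjoint_def.1 h1) v hvX hvY)
  let f : (Σ X : B, {v : X.1 // v ≠ 0}) → {v : V | v ≠ 0 ∧ ∃ X ∈ B, v ∈ X} := fun x =>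
    ⟨x.2.1.1, fun h => x.2.2 (Subtype.ext h), x.1.1, x.1.2, x.2.1.2⟩
  have hf : Function.Bijective f := by
    constructor
    · rintro ⟨⟨X, hX⟩, ⟨⟨v, hvX⟩, hv⟩⟩ ⟨⟨Y, hY⟩, ⟨⟨w, hwY⟩, hw⟩⟩ heq
      have h1 : v = w := congrArg Subtype.val heq
      subst h1
      have h2 : X = Y := huniq X hX Y hY v hvX hwY (fun h => hv (Subtype.ext h))
      subst h2
      rfl
    · rintro ⟨v, hv, X, hX, hvX⟩
      exact ⟨⟨⟨X, hX⟩, ⟨⟨v, hvX⟩, fun h => hv (congrArg Subtype.val h)⟩⟩, rfl⟩
  rw [← Nat.card_congr (Equiv.ofBijective f hf), Nat.card_sigma]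
  have hc : ∀ X : B, Nat.card {v : X.1 // v ≠ 0} = p ^ n - 1 := by
    intro X
    have h1 : Nat.card X.1 = p ^ n := by rw [card_eq_pow (p := p), hn X.1 X.2]
    have := Fintype.ofFinite X.1
    rw [Nat.card_eq_fintype_card, Fintype.card_subtype_compl, ← Nat.card_eq_fintype_card, h1]
    simp
  rw [Finset.sum_congr rfl (fun X _ => hc X), Finset.sum_const, Finset.card_univ, smul_eq_mul,
    ← Nat.card_eq_fintype_card, Nat.card_coe_set_eq]

/-- **Few one-dimensional blocks: soluble.** -/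
theorem solvable_of_one (H : Sys G B) (hirr : Irr G) (hn : ∀ X ∈ B, Module.finrank (ZMod p) X = 1)
    (hB : B.ncard ≤ 4) : Group.IsSolvable G := by
  classical
  have hBf : B.Finite := Set.toFinite B
  have : Fintype B := hBf.fintype
  let mv : G → B → B := fun g X => ⟨X.1.map (g.1 : V →ₗ[ZMod p] V), H.perm g.1 g.2 X.1 X.2⟩
  have mv_mul : ∀ (a b : G) (X : B), mv a (mv b X) = mv (a * b) X := by
    intro a b X
    apply Subtype.ext
    change (X.1.map (b.1 : V →ₗ[ZMod p] V)).map (a.1 : V →ₗ[ZMod p] V) = X.1.map ((a * b : G).1 : V →ₗ[ZMod p] V)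
    rw [← Submodule.map_comp]; rfl
  have mv_one : ∀ X : B, mv 1 X = X := by
    intro X
    apply Subtype.ext
    exact Submodule.map_id X.1
  let f : G →* Equiv.Perm B :=
    { toFun := fun g =>
        { toFun := mv g
          invFun := mv g⁻¹
          left_inv := fun X => by rw [mv_mul, inv_mul_cancel, mv_one]
          right_inv := fun X => by rw [mv_mul, mul_inv_cancel, mv_one] }
      map_one' := by ext1 X; exact mv_one X
      map_mul' := by intro a b; ext1 X; exact (mv_mul a b X).symm }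
  have hker : Group.IsSolvable f.ker := by
    refine Group.isSolvable_of_comm ?_
    intro a b
    apply Subtype.ext
    apply Subtype.ext
    apply LinearEquiv.ext
    intro v
    -- enough on the blocks
    have hblk : ∀ X ∈ B, ∀ x ∈ X, (a.1.1 * b.1.1) x = (b.1.1 * a.1.1) x := by
      intro X hX x hx
      have hs : ∀ c : f.ker, ∃ t : ZMod p, ∀ y ∈ X, c.1.1 y = t • y := by
        intro c
        have h1 : f c.1 = 1 := c.2
        have h2 := congrArg (fun e : Equiv.Perm B => (e ⟨X, hX⟩).1) h1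
        have h3 : X.map (c.1.1 : V →ₗ[ZMod p] V) = X := h2
        obtain ⟨x₀, hx₀, hgen⟩ := finrank_eq_one_iff'.1 (hn X hX)
        have h4 : c.1.1 x₀.1 ∈ X := by
          have : c.1.1 x₀.1 ∈ X.map (c.1.1 : V →ₗ[ZMod p] V) := ⟨x₀.1, x₀.2, rfl⟩
          rwa [h3] at this
        obtain ⟨t, ht⟩ := hgen ⟨_, h4⟩
        refine ⟨t, fun y hy => ?_⟩
        obtain ⟨s, hs⟩ := hgen ⟨y, hy⟩
        have e1 : y = s • x₀.1 := (congrArg Subtype.val hs).symm
        have e2 : c.1.1 x₀.1 = t • x₀.1 := (congrArg Subtype.val ht).symm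
        rw [e1, map_smul, e2, smul_comm]
      obtain ⟨s, hs1⟩ := hs a
      obtain ⟨t, ht1⟩ := hs b
      change a.1.1 (b.1.1 x) = b.1.1 (a.1.1 x)
      rw [ht1 x hx, hs1 x hx, map_smul, map_smul, hs1 x hx, ht1 x hx, smul_comm]
    have htop : sSup B = ⊤ := H.iSup_top hirr subset_rfl H.nt.nonempty H.perm
    have hv : v ∈ sSup B := by rw [htop]; trivial
    have hle : sSup B ≤ LinearMap.eqLocus ((a.1.1 * b.1.1 : V ≃ₗ[ZMod p] V) : V →ₗ[ZMod p] V)
        ((b.1.1 * a.1.1 : V ≃ₗ[ZMod p] V) : V →ₗ[ZMod p] V) := by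
      refine sSup_le ?_
      intro X hX x hx
      exact hblk X hX x hx
    exact hle hv
  have hran : Group.IsSolvable f.range := by
    refine BpAlt.solvable_of_lt _ f.range rfl ?_
    have h1 : Nat.card f.range ≤ Nat.card (Equiv.Perm B) := Nat.card_le_card_of_injective _ f.range.subtype_injective
    rw [Nat.card_perm, Nat.card_coe_set_eq] at h1
    have h2 : (B.ncard).factorial ≤ Nat.factorial 4 := Nat.factorial_le hB
    have h3 : Nat.factorial 4 = 24 := rfl
    omega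
  refine Group.isSolvable_of_ker_le_range f.ker.subtype f.rangeRestrict ?_
  rw [Subgroup.range_subtype, MonoidHom.ker_rangeRestrict]

/-- **Imprimitive coprime half-transitive linear groups with `h ≥ 2` are soluble.** -/
theorem imp_false (H : Sys G B) (hHer : HerHyp.{u}) (hp2 : p ≠ 2) {h : ℕ} (hh : Half G h)
    (h2 : 2 ≤ h) (hG : ¬ p ∣ Nat.card G) (hirr : Irr G) (hins : ¬ Group.IsSolvable G) : False := by
  classical
  obtain ⟨X, hX⟩ := H.nt.nonempty
  obtain ⟨n, hnX⟩ : ∃ n, Module.finrank (ZMod p) X = n := ⟨_, rfl⟩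
  have hn : ∀ Y ∈ B, Module.finrank (ZMod p) Y = n := fun Y hY => by rw [H.card_block hirr hY hX, hnX]
  have hn1 : 1 ≤ n := by
    rw [← hnX]
    have : Nontrivial X := Submodule.nontrivial_iff_ne_bot.2 (H.ne X hX)
    exact Module.finrank_pos
  obtain ⟨x, hxX, hx0⟩ := Submodule.exists_mem_ne_zero_of_ne_bot (H.ne X hX)
  obtain ⟨m, hm, hm0⟩ := exists_m hh ⟨x, hx0⟩
  have hBf : B.Finite := Set.toFinite B
  have hk2 : 2 ≤ B.ncard := Set.one_lt_ncard_iff_nontrivial.2 H.nt
  rcases Nat.lt_or_ge 2 B.ncard with hk | hk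
  · -- at least three blocks
    have c1 : m ∣ B.ncard * (p ^ n - 1) := by
      rw [← H.card_union hn]
      refine dvd_invariant hh (by omega) hm _ (fun h => h.1 rfl) ?_
      rintro g hg v ⟨hv0, Y, hY, hvY⟩
      refine ⟨fun h => hv0 ((LinearEquiv.map_eq_zero_iff g).1 h), _, H.perm g hg Y hY, ⟨v, hvY, rfl⟩⟩
    have hV : Nat.card V = (p ^ n) ^ B.ncard := by
      rw [card_eq_pow (p := p), H.finrank_eq hirr hn, mul_comm, pow_mul]
    have c2 : m ∣ (p ^ n) ^ B.ncard - 1 := by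
      rw [← hV]
      exact dvd_card_sub_one hh (by omega) hm
    have c3 : (p ^ n) ^ B.ncard ≤ 2 * m ^ 2 := by
      rw [← hV]
      exact card_le hG hh h2 hm
    obtain ⟨rfl, hk4⟩ := num_k (Fact.out : p.Prime) hp2 hn1 hk c1 c2 c3
    exact hins (H.solvable_of_one hirr hn hk4)
  · -- two blocks
    have hk' : B.ncard = 2 := by omega
    obtain ⟨U, W, hUW, rfl⟩ := Set.ncard_eq_two.1 hk'
    have hUB : U ∈ ({U, W} : Set (Submodule (ZMod p) V)) := Or.inl rfl
    have hWB : W ∈ ({U, W} : Set (Submodule (ZMod p) V)) := Or.inr rfl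
    have hcompl : IsCompl U W := by
      refine ⟨H.ind.pairwiseDisjoint hUB hWB hUW, ?_⟩
      rw [codisjoint_iff]
      have := H.iSup_top hirr subset_rfl H.nt.nonempty H.perm
      rwa [sSup_pair] at this
    refine two_false hHer hp2 hh h2 hG hirr hins hcompl (H.ne U hUB) (H.ne W hWB) ?_ ?_
    · intro g hg
      have hinj : Function.Injective (Submodule.map (g : V →ₗ[ZMod p] V)) := Submodule.map_injective_of_injective g.injective
      rcases H.perm g hg U hUB with h | h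
      · left
        have h' : W.map (g : V →ₗ[ZMod p] V) = W := by
          rcases H.perm g hg W hWB with h'' | h''
          · exact absurd (hinj (h.trans h''.symm)) hUW
          · exact h''
        refine ⟨fun u hu => ?_, fun w hw => ?_⟩
        · rw [← h]; exact ⟨u, hu, rfl⟩
        · rw [← h']; exact ⟨w, hw, rfl⟩
      · right
        have hh' : U.map (g : V →ₗ[ZMod p] V) = W := h
        have h' : W.map (g : V →ₗ[ZMod p] V) = U := by
          rcases H.perm g hg W hWB with h'' | h''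
          · exact h''
          · exact absurd (hinj (hh'.trans (show W.map (g : V →ₗ[ZMod p] V) = W from h'').symm)) hUW
        refine ⟨fun u hu => ?_, fun w hw => ?_⟩
        · rw [← hh']; exact ⟨u, hu, rfl⟩
        · rw [← h']; exact ⟨w, hw, rfl⟩
    · obtain ⟨g, hg, hgU⟩ := H.trans hirr hUB hWB
      have hinj : Function.Injective (Submodule.map (g : V →ₗ[ZMod p] V)) := Submodule.map_injective_of_injective g.injective
      have h' : W.map (g : V →ₗ[ZMod p] V) = U := by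
        rcases H.perm g hg W hWB with h'' | h''
        · exact h''
        · exact absurd (hinj (hgU.trans (show W.map (g : V →ₗ[ZMod p] V) = W from h'').symm)) hUW
      refine ⟨g, hg, fun u hu => ?_, fun w hw => ?_⟩
      · rw [← hgU]; exact ⟨u, hu, rfl⟩
      · rw [← h']; exact ⟨w, hw, rfl⟩

end Sys

end Cfsg.Agent.H960.HT
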