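import Cfsg.Agent.H960.HT.Asm

/-! S3540: the final statement from the inputs `Ext` and Feit–Thompson. -/

set_option autoImplicit false
set_option linter.unusedSectionVars false
set_option linter.unusedVariables false

namespace Cfsg.Agent.H960.HT

open MulAction Cfsg.Agent.H828.HT Cfsg.Agent.PermutationGroups.AutSL25

universe u w

/-- Feit–Thompson -/
def FT : Prop := ∀ (Y : Type u) [Group Y] [Finite Y], Odd (Nat.card Y) → Group.IsSolvable Y

/-- a group of orbits of equal length as a `Half` group -/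
theorem exists_half {p : ℕ} [Fact p.Prime] {V : Type u} [AddCommGroup V] [Module (ZMod p) V] [Finite V] [Nontrivial V]
    {G : Type w} [Group G] [Finite G] (ρ : G →* (V ≃ₗ[ZMod p] V))
    (hhalf : ∀ v w : V, v ≠ 0 → w ≠ 0 →
      Nat.card {u : V | ∃ g : G, ρ g v = u} = Nat.card {u : V | ∃ g : G, ρ g w = u}) :
    ∃ h, 1 ≤ h ∧ Half ρ.range h := by
  classical
  obtain ⟨v₀, hv₀⟩ := exists_ne (0 : V)
  have horb : ∀ v : V, (orbit ρ.range v : Set V) = {u : V | ∃ g : G, ρ g v = u} := by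
    intro v
    ext u
    constructor
    · rintro ⟨⟨_, g, rfl⟩, rfl⟩
      exact ⟨g, rfl⟩
    · rintro ⟨g, rfl⟩
      exact ⟨⟨ρ g, g, rfl⟩, rfl⟩
  have hcard : ∀ v : V, Nat.card {u : V | ∃ g : G, ρ g v = u} * Nat.card (stabilizer ρ.range v) =
      Nat.card ρ.range := by
    intro v
    have h1 := Nat.card_congr (MulAction.orbitProdStabilizerEquivGroup ρ.range v)
    rw [Nat.card_prod, horb] at h1
    exact h1
  refine ⟨Nat.card (stabilizer ρ.range v₀), Nat.card_pos, ?_⟩
  intro v hv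
  have h1 := hcard v
  rw [← hcard v₀, hhalf v v₀ hv hv₀] at h1
  have hpos : 0 < Nat.card {u : V | ∃ g : G, ρ g v₀ = u} := by
    have : Nonempty {u : V | ∃ g : G, ρ g v₀ = u} := ⟨⟨v₀, 1, by rw [map_one]; rfl⟩⟩
    exact Nat.card_pos
  exact Nat.eq_of_mul_eq_mul_left hpos h1

/-- **S3540 from the inputs.** -/
theorem final (X : Ext.{u}) (hFT : FT.{u}) (p : ℕ) [Fact p.Prime] {V : Type u} [AddCommGroup V] [Module (ZMod p) V]
    [Finite V] [Nontrivial V] {G : Type w} [Group G] [Finite G] (hsol : ¬ Group.IsSolvable G) (hcop : ¬ p ∣ Nat.card G)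
    (ρ : G →* (V ≃ₗ[ZMod p] V)) (hρ : Function.Injective ρ)
    (hhalf : ∀ v w : V, v ≠ 0 → w ≠ 0 →
      Nat.card {u : V | ∃ g : G, ρ g v = u} = Nat.card {u : V | ∃ g : G, ρ g w = u}) :
    (∀ v : V, v ≠ 0 → ∀ g : G, ρ g v = v → g = 1) ∨
    ((∃ N : Subgroup G, N.Normal ∧ Nonempty (↥N ≃* Matrix.SpecialLinearGroup (Fin 2) (ZMod 5))) ∧
      ((Module.finrank (ZMod p) V = 2 ∧ (p = 11 ∨ p = 19 ∨ p = 29)) ∨
        (Module.finrank (ZMod p) V = 4 ∧ p = 13))) := by
  classical
  obtain ⟨h, h1, hh⟩ := exists_half ρ hhalf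
  have e : G ≃* ρ.range := MonoidHom.ofInjective hρ
  have hcard : Nat.card ρ.range = Nat.card G := (Nat.card_congr e.toEquiv).symm
  have hG : ¬ p ∣ Nat.card ρ.range := by rw [hcard]; exact hcop
  have hins : ¬ Group.IsSolvable ρ.range := by
    intro hs
    exact hsol (Group.isSolvable_of_surjective (f := e.symm.toMonoidHom) e.symm.surjective)
  rcases Nat.lt_or_ge 1 h with h2 | h2
  · right
    have hp2 : p ≠ 2 := by
      rintro rfl
      apply hins
      apply hFT
      rw [← Nat.not_even_iff_odd, even_iff_two_dvd]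
      exact hG
    obtain ⟨S, hSG, hSn, ⟨eS⟩, hl⟩ := main X (Nat.card V) p hp2 V rfl ρ.range h hh h2 hG hins
    refine ⟨⟨S.comap ρ, ?_, ?_⟩, hl⟩
    · constructor
      intro n hn g
      change ρ (g * n * g⁻¹) ∈ S
      rw [map_mul, map_mul, map_inv]
      exact hSn (ρ g) ⟨g, rfl⟩ (ρ n) hn
    · have h3 : (S.comap ρ).map ρ = S := Subgroup.map_comap_eq_self hSG
      have e1 := (S.comap ρ).equivMapOfInjective ρ hρ
      rw [h3] at e1
      exact ⟨e1.trans eS⟩
  · left
    have h1' : h = 1 := by omega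
    subst h1'
    intro v hv g hg
    have h3 := hh v hv
    rw [Subgroup.card_eq_one] at h3
    have h4 : (⟨ρ g, g, rfl⟩ : ρ.range) ∈ stabilizer ρ.range v := hg
    rw [h3, Subgroup.mem_bot] at h4
    have h5 : ρ g = 1 := congrArg Subtype.val h4
    exact (map_eq_one_iff ρ hρ).1 h5

end Cfsg.Agent.H960.HT
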