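import Cfsg.Agent.H960.HT.Imp
import Cfsg.Agent.PLocal.HHBClifford

/-! Clifford's theorem for linear groups over `ZMod p` in the language of invariant subspaces. -/

set_option autoImplicit false
set_option linter.unusedSectionVars false

namespace Cfsg.Agent.H960.HT

open MulAction Cfsg.Agent.H828.HT Cfsg.Agent.PLocal.HHBClifford

universe u

variable {p : ℕ} [Fact p.Prime] {V : Type u} [AddCommGroup V] [Module (ZMod p) V]

/-- an irreducible `N`-submodule -/
structure NIrr (N : Subgroup (V ≃ₗ[ZMod p] V)) (M : Submodule (ZMod p) V) : Prop where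
  ne : M ≠ ⊥
  inv : ∀ n ∈ N, ∀ v ∈ M, n v ∈ M
  irr : ∀ W : Submodule (ZMod p) V, W ≤ M → (∀ n ∈ N, ∀ v ∈ W, n v ∈ W) → W = ⊥ ∨ W = M

/-- the enveloping algebra -/
def env (N : Subgroup (V ≃ₗ[ZMod p] V)) : Subalgebra (ZMod p) (Module.End (ZMod p) V) :=
  Algebra.adjoin (ZMod p) {a | ∃ n ∈ N, a = (n : V →ₗ[ZMod p] V)}

/-- invariant subspaces as modules over the enveloping algebra -/
def toE (N : Subgroup (V ≃ₗ[ZMod p] V)) (M : Submodule (ZMod p) V) (h : ∀ n ∈ N, ∀ v ∈ M, n v ∈ M) :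
    Submodule (env N) V where
  carrier := M
  add_mem' := M.add_mem
  zero_mem' := M.zero_mem
  smul_mem' := by
    rintro ⟨a, ha⟩ v hv
    change a v ∈ M
    have : ∀ v ∈ M, a v ∈ M := by
      refine Algebra.adjoin_induction (p := fun a _ => ∀ v ∈ M, a v ∈ M) ?_ ?_ ?_ ?_ ha
      · rintro _ ⟨n, hn, rfl⟩ v hv
        exact h n hn v hv
      · intro r v hv
        exact M.smul_mem r hv
      · intro x y _ _ hx hy v hv
        exact M.add_mem (hx v hv) (hy v hv)
      · intro x y _ _ hx hy v hv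
        exact hx _ (hy v hv)
    exact this v hv

@[simp] theorem mem_toE {N : Subgroup (V ≃ₗ[ZMod p] V)} {M : Submodule (ZMod p) V}
    {h : ∀ n ∈ N, ∀ v ∈ M, n v ∈ M} {v : V} : v ∈ toE N M h ↔ v ∈ M := Iff.rfl

/-- the underlying subspace -/
def toV {N : Subgroup (V ≃ₗ[ZMod p] V)} (M : Submodule (env N) V) : Submodule (ZMod p) V where
  carrier := M
  add_mem' := M.add_mem
  zero_mem' := M.zero_mem
  smul_mem' := by
    intro c v hv
    have := M.smul_mem (⟨algebraMap (ZMod p) _ c, (env N).algebraMap_mem c⟩ : env N) hv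
    exact this

@[simp] theorem mem_toV {N : Subgroup (V ≃ₗ[ZMod p] V)} {M : Submodule (env N) V} {v : V} :
    v ∈ toV M ↔ v ∈ M := Iff.rfl

theorem toV_inv {N : Subgroup (V ≃ₗ[ZMod p] V)} (M : Submodule (env N) V) :
    ∀ n ∈ N, ∀ v ∈ toV M, n v ∈ toV M := by
  intro n hn v hv
  exact M.smul_mem (⟨(n : V →ₗ[ZMod p] V), Algebra.subset_adjoin ⟨n, hn, rfl⟩⟩ : env N) hv

theorem toV_injective {N : Subgroup (V ≃ₗ[ZMod p] V)} : Function.Injective (toV (N := N)) := by
  intro M M' h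
  ext v
  rw [← mem_toV, h, mem_toV]

theorem toV_toE {N : Subgroup (V ≃ₗ[ZMod p] V)} (M : Submodule (ZMod p) V) (h : ∀ n ∈ N, ∀ v ∈ M, n v ∈ M) :
    toV (toE N M h) = M := by ext; rfl

theorem toE_toV {N : Subgroup (V ≃ₗ[ZMod p] V)} (M : Submodule (env N) V) :
    toE N (toV M) (toV_inv M) = M := by ext; rfl

theorem toV_mono {N : Subgroup (V ≃ₗ[ZMod p] V)} {M M' : Submodule (env N) V} (h : M ≤ M') : toV M ≤ toV M' :=
  fun _ hv => h hv

theorem simple_iff {N : Subgroup (V ≃ₗ[ZMod p] V)} (M : Submodule (env N) V) :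
    IsSimpleModule (env N) M ↔ NIrr N (toV M) := by
  rw [isSimpleModule_iff_isAtom]
  constructor
  · intro h
    refine ⟨?_, toV_inv M, ?_⟩
    · intro hb
      apply h.1
      rw [eq_bot_iff]
      intro v hv
      have : v ∈ toV M := hv
      rw [hb] at this
      exact this
    · intro W hW hinv
      have h1 : toE N W hinv ≤ M := fun v hv => hW hv
      rcases h.le_iff.1 h1 with h2 | h2
      · left
        rw [eq_bot_iff]
        intro v hv
        have : v ∈ toE N W hinv := hv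
        rw [h2] at this
        exact this
      · right
        rw [← h2, toV_toE]
  · intro h
    refine ⟨?_, ?_⟩
    · rintro rfl
      apply h.ne
      rw [eq_bot_iff]
      intro v hv
      exact hv
    · intro W hW
      rcases h.irr (toV W) (toV_mono hW.le) (toV_inv W) with h1 | h1
      · rw [eq_bot_iff]
        intro v hv
        have : v ∈ toV W := hv
        rw [h1] at this
        exact this
      · exact absurd (toV_injective h1) hW.ne

/-- a linear automorphism as a unit -/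
def unitOf (g : V ≃ₗ[ZMod p] V) : (Module.End (ZMod p) V)ˣ :=
  (LinearMap.GeneralLinearGroup.generalLinearEquiv (ZMod p) V).symm g

theorem unitOf_apply (g : V ≃ₗ[ZMod p] V) (v : V) : ((unitOf g : (Module.End (ZMod p) V)ˣ) : Module.End (ZMod p) V) v = g v := rfl

theorem unitOf_inv_apply (g : V ≃ₗ[ZMod p] V) (v : V) :
    (((unitOf g)⁻¹ : (Module.End (ZMod p) V)ˣ) : Module.End (ZMod p) V) v = g⁻¹ v := rfl

theorem nrm_of {N : Subgroup (V ≃ₗ[ZMod p] V)} {g : V ≃ₗ[ZMod p] V} (h1 : ∀ n ∈ N, g * n * g⁻¹ ∈ N)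
    (h2 : ∀ n ∈ N, g⁻¹ * n * g ∈ N) : Nrm (env N) (unitOf g) := by
  have key : ∀ k : V ≃ₗ[ZMod p] V, (∀ n ∈ N, k * n * k⁻¹ ∈ N) → ∀ a ∈ env N,
      (unitOf k : Module.End (ZMod p) V) * a * (((unitOf k)⁻¹ : (Module.End (ZMod p) V)ˣ) : Module.End (ZMod p) V) ∈ env N := by
    intro k hk a ha
    refine Algebra.adjoin_induction (p := fun a _ => (unitOf k : Module.End (ZMod p) V) * a *
      (((unitOf k)⁻¹ : (Module.End (ZMod p) V)ˣ) : Module.End (ZMod p) V) ∈ env N) ?_ ?_ ?_ ?_ ha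
    · rintro _ ⟨n, hn, rfl⟩
      refine Algebra.subset_adjoin ⟨k * n * k⁻¹, hk n hn, ?_⟩
      rfl
    · intro r
      rw [← Algebra.commutes, mul_assoc, Units.mul_inv, mul_one]
      exact (env N).algebraMap_mem r
    · intro x y _ _ hx hy
      rw [mul_add, add_mul]
      exact (env N).add_mem hx hy
    · intro x y _ _ hx hy
      have : (unitOf k : Module.End (ZMod p) V) * (x * y) * (((unitOf k)⁻¹ : (Module.End (ZMod p) V)ˣ) : Module.End (ZMod p) V) =
          ((unitOf k : Module.End (ZMod p) V) * x * (((unitOf k)⁻¹ : (Module.End (ZMod p) V)ˣ) : Module.End (ZMod p) V)) *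
          ((unitOf k : Module.End (ZMod p) V) * y * (((unitOf k)⁻¹ : (Module.End (ZMod p) V)ˣ) : Module.End (ZMod p) V)) := by
        simp only [mul_assoc, Units.inv_mul_cancel_left]
      rw [this]
      exact (env N).mul_mem hx hy
  refine ⟨key g h1, ?_⟩
  intro a ha
  have := key g⁻¹ (by intro n hn; rw [inv_inv]; exact h2 n hn) a ha
  exact this

variable [Finite V] {G N : Subgroup (V ≃ₗ[ZMod p] V)}

theorem exists_nirr (N : Subgroup (V ≃ₗ[ZMod p] V)) {W : Submodule (ZMod p) V} (hW : W ≠ ⊥)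
    (hinv : ∀ n ∈ N, ∀ v ∈ W, n v ∈ W) : ∃ M ≤ W, NIrr N M := by
  classical
  have hfin : Finite (Submodule (ZMod p) V) := Finite.of_injective (fun W : Submodule (ZMod p) V => (W : Set V)) SetLike.coe_injective
  have hwf : WellFounded ((· < ·) : Submodule (ZMod p) V → Submodule (ZMod p) V → Prop) := Finite.to_wellFoundedLT.wf
  obtain ⟨M, ⟨hM1, hM2, hM3⟩, hmin⟩ := hwf.has_min {M : Submodule (ZMod p) V | M ≤ W ∧ M ≠ ⊥ ∧ ∀ n ∈ N, ∀ v ∈ M, n v ∈ M}
    ⟨W, le_refl _, hW, hinv⟩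
  refine ⟨M, hM1, hM2, hM3, ?_⟩
  intro X hX hXinv
  by_cases hX0 : X = ⊥
  · exact Or.inl hX0
  · right
    by_contra hne
    exact hmin X ⟨hX.trans hM1, hX0, hXinv⟩ (lt_of_le_of_ne hX hne)

theorem nirr_map (hN : ∀ g ∈ G, ∀ n ∈ N, g * n * g⁻¹ ∈ N) {g : V ≃ₗ[ZMod p] V} (hg : g ∈ G)
    {M : Submodule (ZMod p) V} (hM : NIrr N M) : NIrr N (M.map (g : V →ₗ[ZMod p] V)) := by
  have key : ∀ k ∈ G, ∀ X : Submodule (ZMod p) V, (∀ n ∈ N, ∀ v ∈ X, n v ∈ X) →
      ∀ n ∈ N, ∀ v ∈ X.map (k : V →ₗ[ZMod p] V), n v ∈ X.map (k : V →ₗ[ZMod p] V) := by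
    rintro k hk X hX n hn _ ⟨w, hw, rfl⟩
    have h1 := hN k⁻¹ (G.inv_mem hk) n hn
    refine ⟨(k⁻¹ * n * k⁻¹⁻¹) w, hX _ h1 w hw, ?_⟩
    change (k * (k⁻¹ * n * k⁻¹⁻¹)) w = n (k w)
    rw [inv_inv, ← mul_assoc, mul_inv_cancel_left]
    rfl
  have hcomp : ∀ X : Submodule (ZMod p) V, (X.map ((g⁻¹ : V ≃ₗ[ZMod p] V) : V →ₗ[ZMod p] V)).map (g : V →ₗ[ZMod p] V) = X := by
    intro X
    rw [← Submodule.map_comp]
    have : ((g : V →ₗ[ZMod p] V)).comp ((g⁻¹ : V ≃ₗ[ZMod p] V) : V →ₗ[ZMod p] V) = LinearMap.id := by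
      ext v
      change (g * g⁻¹) v = v
      rw [mul_inv_cancel]; rfl
    rw [this, Submodule.map_id]
  refine ⟨?_, key g hg M hM.inv, ?_⟩
  · intro hb
    apply hM.ne
    rw [eq_bot_iff]
    intro v hv
    have : g v ∈ M.map (g : V →ₗ[ZMod p] V) := ⟨v, hv, rfl⟩
    rw [hb, Submodule.mem_bot] at this
    exact (LinearEquiv.map_eq_zero_iff g).1 this
  · intro W hW hinv
    have h1 : W.map ((g⁻¹ : V ≃ₗ[ZMod p] V) : V →ₗ[ZMod p] V) ≤ M := by
      rintro _ ⟨w, hw, rfl⟩
      obtain ⟨v, hv, rfl⟩ := hW hw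
      change (g⁻¹ * g) v ∈ M
      rw [inv_mul_cancel]; exact hv
    rcases hM.irr _ h1 (key g⁻¹ (G.inv_mem hg) W hinv) with h | h
    · left
      rw [← hcomp W, h, Submodule.map_bot]
    · right
      rw [← hcomp W, h]

/-- the irreducible `N`-submodules span -/
theorem sSup_nirr (hirr : Irr G) (hN : ∀ g ∈ G, ∀ n ∈ N, g * n * g⁻¹ ∈ N) [Nontrivial V] :
    sSup {M : Submodule (ZMod p) V | NIrr N M} = ⊤ := by
  obtain ⟨M, -, hM⟩ := exists_nirr N (W := ⊤) top_ne_bot (fun _ _ _ _ => trivial)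
  rcases hirr (sSup {M : Submodule (ZMod p) V | NIrr N M}) (by
    intro g hg v hv
    have h1 : (sSup {M : Submodule (ZMod p) V | NIrr N M}).map (g : V →ₗ[ZMod p] V) ≤
        sSup {M : Submodule (ZMod p) V | NIrr N M} := by
      rw [sSup_eq_iSup, Submodule.map_iSup]
      refine iSup_le fun X => ?_
      rw [Submodule.map_iSup]
      refine iSup_le fun hX => ?_
      rw [← sSup_eq_iSup]
      exact le_sSup (nirr_map hN hg hX)
    exact h1 ⟨v, hv, rfl⟩) with h | h
  · exfalso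
    apply hM.ne
    rw [eq_bot_iff, ← h]
    exact le_sSup hM
  · exact h

/-- `V|_N` is homogeneous -/
def Homog (N : Subgroup (V ≃ₗ[ZMod p] V)) : Prop :=
  ∀ M M' : Submodule (ZMod p) V, NIrr N M → NIrr N M' →
    ∃ e : M ≃ₗ[ZMod p] M', ∀ n ∈ N, ∀ v w : M, (w : V) = n v → (e w : V) = n (e v)

/-- **Clifford's theorem.** -/
theorem clifford (_hirr : Irr G) (hN : ∀ g ∈ G, ∀ n ∈ N, g * n * g⁻¹ ∈ N) [Nontrivial V] :
    Homog N ∨ ∃ B, Sys G B := by
  classical
  by_cases hsub : (isotypicComponents (env N) V).Subsingleton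
  · left
    intro M M' hM hM'
    have hs : IsSimpleModule (env N) (toE N M hM.inv) := by
      rw [simple_iff, toV_toE]; exact hM
    have hs' : IsSimpleModule (env N) (toE N M' hM'.inv) := by
      rw [simple_iff, toV_toE]; exact hM'
    have h1 : isotypicComponent (env N) V (toE N M hM.inv) ∈ isotypicComponents (env N) V := ⟨_, hs, rfl⟩
    have h2 : isotypicComponent (env N) V (toE N M' hM'.inv) ∈ isotypicComponents (env N) V := ⟨_, hs', rfl⟩
    have h3 := hsub h1 h2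
    have h4 : toE N M hM.inv ≤ isotypicComponent (env N) V (toE N M' hM'.inv) := by
      rw [← h3]; exact Submodule.le_isotypicComponent _
    obtain ⟨e⟩ := isIsotypicOfType_submodule_iff.mp (.isotypicComponent (env N) V (toE N M' hM'.inv)) _ h4
    let e' : M ≃ₗ[ZMod p] M' :=
      { toFun := fun v => ⟨(e ⟨v.1, v.2⟩).1, (e ⟨v.1, v.2⟩).2⟩
        invFun := fun v => ⟨(e.symm ⟨v.1, v.2⟩).1, (e.symm ⟨v.1, v.2⟩).2⟩
        left_inv := by
          intro v
          apply Subtype.ext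
          change (e.symm (e ⟨v.1, v.2⟩)).1 = v.1
          rw [e.symm_apply_apply]
        right_inv := by
          intro v
          apply Subtype.ext
          change (e (e.symm ⟨v.1, v.2⟩)).1 = v.1
          rw [e.apply_symm_apply]
        map_add' := by
          intro v w
          apply Subtype.ext
          exact congrArg Subtype.val (map_add e ⟨v.1, v.2⟩ ⟨w.1, w.2⟩)
        map_smul' := by
          intro c v
          apply Subtype.ext
          exact congrArg Subtype.val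
            (e.map_smul (⟨algebraMap (ZMod p) _ c, (env N).algebraMap_mem c⟩ : env N) ⟨v.1, v.2⟩) }
    refine ⟨e', ?_⟩
    intro n hn v w hw
    have h5 := e.map_smul (⟨(n : V →ₗ[ZMod p] V), Algebra.subset_adjoin ⟨n, hn, rfl⟩⟩ : env N) ⟨v.1, v.2⟩
    have h6 := congrArg Subtype.val h5
    refine Eq.trans ?_ h6
    change (e ⟨w.1, w.2⟩).1 = _
    congr 2
    exact Subtype.ext hw
  · right
    rw [Set.not_subsingleton_iff] at hsub
    refine ⟨toV '' isotypicComponents (env N) V, ?_, ?_, ?_, hsub.image toV_injective⟩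
    · rintro _ ⟨c, hc, rfl⟩ hb
      apply (bot_lt_isotypicComponents hc).ne'
      rw [eq_bot_iff]
      intro v hv
      have : v ∈ toV c := hv
      rw [hb] at this
      exact this
    · rintro _ ⟨c, hc, rfl⟩
      have h1 := sSupIndep_isotypicComponents (R := env N) (M := V) hc
      have h2 : sSup (toV '' isotypicComponents (env N) V \ {toV c}) ≤
          toV (sSup (isotypicComponents (env N) V \ {c})) := by
        refine sSup_le ?_
        rintro _ ⟨⟨d, hd, rfl⟩, hne⟩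
        refine toV_mono (le_sSup ⟨hd, fun h => hne ?_⟩)
        rw [h]; rfl
      refine Disjoint.mono_right h2 ?_
      rw [Submodule.disjoint_def]
      intro v hv hv'
      exact (Submodule.disjoint_def.1 h1) v hv hv'
    · rintro g hg _ ⟨c, ⟨S, hS, rfl⟩, rfl⟩
      have hnrm : Nrm (env N) (unitOf g) := nrm_of (hN g hg) (by
        intro n hn
        have := hN g⁻¹ (G.inv_mem hg) n hn
        rwa [inv_inv] at this)
      refine ⟨tw hnrm (isotypicComponent (env N) V S), ⟨tw hnrm S, isSimple_tw hnrm hS, tw_isotypicComponent hnrm S⟩, ?_⟩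
      ext v
      rw [mem_toV, mem_tw, Submodule.mem_map]
      constructor
      · intro h
        refine ⟨g⁻¹ v, h, ?_⟩
        change (g * g⁻¹) v = v
        rw [mul_inv_cancel]; rfl
      · rintro ⟨w, hw, rfl⟩
        have : (((unitOf g)⁻¹ : (Module.End (ZMod p) V)ˣ) : Module.End (ZMod p) V) (g w) = w := by
          rw [unitOf_inv_apply]
          change (g⁻¹ * g) w = w
          rw [inv_mul_cancel]; rfl
        change _ ∈ isotypicComponent (env N) V S
        exact this.symm ▸ hw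

/-- in the homogeneous case `N` is faithful on every irreducible submodule -/
theorem Homog.faithful (hH : Homog N) (hirr : Irr G) (hN : ∀ g ∈ G, ∀ n ∈ N, g * n * g⁻¹ ∈ N) [Nontrivial V]
    {M : Submodule (ZMod p) V} (hM : NIrr N M) {n : V ≃ₗ[ZMod p] V} (hn : n ∈ N) (h : ∀ v ∈ M, n v = v) :
    n = 1 := by
  have h1 : ∀ M' : Submodule (ZMod p) V, NIrr N M' → ∀ v ∈ M', n v = v := by
    intro M' hM' v hv
    obtain ⟨e, he⟩ := hH M' M hM' hM
    have h2 := he n hn ⟨v, hv⟩ ⟨n v, hM'.inv n hn v hv⟩ rfl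
    rw [h _ (e ⟨v, hv⟩).2] at h2
    have h3 := e.injective (Subtype.ext h2)
    exact congrArg Subtype.val h3
  have h2 : (⊤ : Submodule (ZMod p) V) ≤ LinearMap.eqLocus (n : V →ₗ[ZMod p] V) LinearMap.id := by
    rw [← sSup_nirr hirr hN]
    exact sSup_le (fun M' hM' v hv => h1 M' hM' v hv)
  apply LinearEquiv.ext
  intro v
  exact h2 (Submodule.mem_top (x := v))

/-- Maschke: an invariant complement -/
theorem exists_compl (hG : ¬ p ∣ Nat.card G) {W : Submodule (ZMod p) V} (hW : ∀ g ∈ G, ∀ v ∈ W, g v ∈ W) :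
    ∃ K : Submodule (ZMod p) V, IsCompl W K ∧ ∀ g ∈ G, ∀ v ∈ K, g v ∈ K := by
  classical
  obtain ⟨f, hf1, hf2⟩ : ∃ f : V →ₗ[ZMod p] V, (∀ v, f v ∈ W) ∧ (∀ v ∈ W, f v = v) := by
    obtain ⟨q, hq⟩ := Submodule.exists_isCompl W
    refine ⟨W.subtype.comp (Submodule.projectionOnto W q hq), fun v => ?_, fun v hv => ?_⟩
    · exact (Submodule.projectionOnto W q hq v).2
    · change ((Submodule.projectionOnto W q hq v : W) : V) = v
      rw [show v = ((⟨v, hv⟩ : W) : V) from rfl, Submodule.projectionOnto_apply_left]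
  let F : V →ₗ[ZMod p] V := ∑ g : G, ((g.1 : V →ₗ[ZMod p] V)).comp (f.comp ((g⁻¹ : G).1 : V →ₗ[ZMod p] V))
  have hFv : ∀ v, F v = ∑ g : G, g.1 (f ((g⁻¹ : G).1 v)) := by
    intro v
    simp only [F, LinearMap.sum_apply]
    rfl
  have hF1 : ∀ v, F v ∈ W := by
    intro v
    rw [hFv]
    exact W.sum_mem (fun g _ => hW g.1 g.2 _ (hf1 _))
  have hF2 : ∀ v ∈ W, F v = (Nat.card G : ZMod p) • v := by
    intro v hv
    rw [hFv]
    have : ∀ g : G, g.1 (f ((g⁻¹ : G).1 v)) = v := by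
      intro g
      rw [hf2 _ (hW _ (g⁻¹).2 v hv)]
      change (g * g⁻¹ : G).1 v = v
      rw [mul_inv_cancel]; rfl
    rw [Finset.sum_congr rfl (fun g _ => this g), Finset.sum_const, Finset.card_univ,
      Nat.card_eq_fintype_card, Nat.cast_smul_eq_nsmul]
  have hF3 : ∀ k : G, ∀ v, F (k.1 v) = k.1 (F v) := by
    intro k v
    rw [hFv, hFv, map_sum]
    refine Fintype.sum_equiv (Equiv.mulLeft k⁻¹) _ _ ?_
    intro g
    change g.1 (f ((g⁻¹ : G).1 (k.1 v))) = k.1 ((k⁻¹ * g : G).1 (f (((k⁻¹ * g)⁻¹ : G).1 v)))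
    have e1 : ((k⁻¹ * g)⁻¹ : G) = g⁻¹ * k := by group
    have e2 : ∀ w, k.1 ((k⁻¹ * g : G).1 w) = g.1 w := by
      intro w
      change (k * (k⁻¹ * g) : G).1 w = g.1 w
      rw [mul_inv_cancel_left]
    rw [e2, e1]
    rfl
  have hc0 : (Nat.card G : ZMod p) ≠ 0 := by
    rwa [Ne, ZMod.natCast_eq_zero_iff]
  refine ⟨LinearMap.ker F, ⟨?_, ?_⟩, ?_⟩
  · rw [Submodule.disjoint_def]
    intro v hv hv'
    rw [LinearMap.mem_ker, hF2 v hv] at hv'
    exact (smul_eq_zero.1 hv').resolve_left hc0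
  · rw [codisjoint_iff, eq_top_iff]
    intro v _
    refine Submodule.mem_sup.2 ⟨(Nat.card G : ZMod p)⁻¹ • F v, W.smul_mem _ (hF1 v),
      v - (Nat.card G : ZMod p)⁻¹ • F v, ?_, by abel⟩
    rw [LinearMap.mem_ker, map_sub, map_smul, hF2 _ (hF1 v), smul_smul, inv_mul_cancel₀ hc0, one_smul, sub_self]
  · intro g hg v hv
    rw [LinearMap.mem_ker] at hv ⊢
    rw [hF3 ⟨g, hg⟩ v, hv, map_zero]

/-- **Reducible coprime half-transitive groups are semiregular.** -/
theorem irr_of_half (hG : ¬ p ∣ Nat.card G) {h : ℕ} (hh : Half G h) (h2 : 2 ≤ h) : Irr G := by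
  classical
  intro W hW
  by_contra hcon
  push Not at hcon
  obtain ⟨hb, ht⟩ := hcon
  obtain ⟨K, hK, hKinv⟩ := exists_compl hG hW
  have hKb : K ≠ ⊥ := by
    rintro rfl
    exact ht (by simpa using hK.sup_eq_top)
  obtain ⟨w₀, hw₀, hw₀0⟩ := Submodule.exists_mem_ne_zero_of_ne_bot hb
  obtain ⟨k₀, hk₀, hk₀0⟩ := Submodule.exists_mem_ne_zero_of_ne_bot hKb
  have hdis : ∀ x, x ∈ W → x ∈ K → x = 0 := Submodule.disjoint_def.1 hK.disjoint
  have key : ∀ w ∈ W, w ≠ 0 → ∀ k ∈ K, k ≠ 0 → stabilizer G w = stabilizer G k := by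
    intro w hw hw0 k hk hk0
    have hs : w + k ≠ 0 := by
      intro h
      have : w ∈ K := by
        rw [eq_neg_of_add_eq_zero_left h]
        exact K.neg_mem hk
      exact hw0 (hdis w hw this)
    have hsub : ∀ g : G, g • (w + k) = w + k → g • w = w ∧ g • k = k := by
      intro g hg
      rw [smul_add] at hg
      have h1 : g • w - w = k - g • k := by rw [sub_eq_sub_iff_add_eq_add, hg, add_comm]
      have h2 : g • w - w ∈ W := W.sub_mem (hW g.1 g.2 w hw) hw
      have h3 : g • w - w ∈ K := by rw [h1]; exact K.sub_mem hk (hKinv g.1 g.2 k hk)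
      have h4 := hdis _ h2 h3
      refine ⟨sub_eq_zero.1 h4, ?_⟩
      rw [h4] at h1
      exact (sub_eq_zero.1 h1.symm).symm
    have e1 : stabilizer G (w + k) = stabilizer G w := by
      apply Subgroup.eq_of_le_of_card_ge
      · intro g hg; exact (hsub g hg).1
      · rw [hh _ hs, hh _ hw0]
    have e2 : stabilizer G (w + k) = stabilizer G k := by
      apply Subgroup.eq_of_le_of_card_ge
      · intro g hg; exact (hsub g hg).2
      · rw [hh _ hs, hh _ hk0]
    rw [← e1, e2]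
  have hone : stabilizer G w₀ = ⊥ := by
    rw [eq_bot_iff]
    intro g hg
    rw [Subgroup.mem_bot]
    have hk : ∀ k ∈ K, g • k = k := by
      intro k hk
      by_cases hk0 : k = 0
      · rw [hk0, smul_zero]
      · have : g ∈ stabilizer G k := by rw [← key w₀ hw₀ hw₀0 k hk hk0]; exact hg
        exact this
    have hw : ∀ w ∈ W, g • w = w := by
      intro w hw
      by_cases hw0 : w = 0
      · rw [hw0, smul_zero]
      · have : g ∈ stabilizer G w := by
          rw [key w hw hw0 k₀ hk₀ hk₀0, ← key w₀ hw₀ hw₀0 k₀ hk₀ hk₀0]; exact hg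
        exact this
    apply Subtype.ext
    apply LinearEquiv.ext
    intro v
    have hv : v ∈ W ⊔ K := by rw [hK.sup_eq_top]; trivial
    obtain ⟨w, hw', k, hk', rfl⟩ := Submodule.mem_sup.1 hv
    change g • (w + k) = w + k
    rw [smul_add, hw w hw', hk k hk']
  have := hh w₀ hw₀0
  rw [hone, Subgroup.card_bot] at this
  omega

end Cfsg.Agent.H960.HT
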