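import Cfsg.Agent.H960.HT.TwoT

/-! Three one-dimensional blocks, and the summary for imprimitive coprime half-transitive groups. -/

set_option autoImplicit false
set_option linter.unusedSectionVars false

namespace Cfsg.Agent.H960.HT

open MulAction Cfsg.Agent.H828.HT

universe u

variable {p : ℕ} [Fact p.Prime] {V : Type u} [AddCommGroup V] [Module (ZMod p) V] [Finite V]
  {G : Subgroup (V ≃ₗ[ZMod p] V)} {B : Set (Submodule (ZMod p) V)} {h : ℕ}

theorem mem_map_iff {g : V ≃ₗ[ZMod p] V} {X : Submodule (ZMod p) V} {v : V} (hv : v ∈ X) :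
    g v ∈ X.map (g : V →ₗ[ZMod p] V) := ⟨v, hv, rfl⟩

/-- two blocks of a system meet trivially -/
theorem Sys.disj (H : Sys G B) {X Y : Submodule (ZMod p) V} (hX : X ∈ B) (hY : Y ∈ B) (hne : X ≠ Y) {v : V}
    (h1 : v ∈ X) (h2 : v ∈ Y) : v = 0 :=
  (Submodule.disjoint_def.1 (H.ind.pairwiseDisjoint hX hY hne)) v h1 h2

/-- the stabiliser of a vector of a block stabilises the block -/
theorem Sys.map_eq (H : Sys G B) {X : Submodule (ZMod p) V} (hX : X ∈ B) {v : V} (hv : v ∈ X) (hv0 : v ≠ 0)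
    {g : V ≃ₗ[ZMod p] V} (hg : g ∈ G) (hgv : g v = v) : X.map (g : V →ₗ[ZMod p] V) = X := by
  by_contra hne
  have h1 : v ∈ X.map (g : V →ₗ[ZMod p] V) := ⟨v, hv, hgv⟩
  exact hv0 (H.disj (H.perm g hg X hX) hX hne h1 hv)

section tri

variable {S T R : Submodule (ZMod p) V}

theorem Sys.sum3 (H : Sys G {S, T, R}) (hST : S ≠ T) (hSR : S ≠ R) (hTR : T ≠ R) {s t r : V} (hs : s ∈ S)
    (ht : t ∈ T) (hr : r ∈ R) (h0 : s + t + r = 0) : s = 0 ∧ t = 0 ∧ r = 0 := by
  have hS : S ∈ ({S, T, R} : Set (Submodule (ZMod p) V)) := Or.inl rfl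
  have hT : T ∈ ({S, T, R} : Set (Submodule (ZMod p) V)) := Or.inr (Or.inl rfl)
  have hR : R ∈ ({S, T, R} : Set (Submodule (ZMod p) V)) := Or.inr (Or.inr rfl)
  have d1 := H.ind hS
  have hsup : T ⊔ R ≤ sSup ({S, T, R} \ {S}) := by
    apply sup_le
    · exact le_sSup ⟨hT, fun h => hST h.symm⟩
    · exact le_sSup ⟨hR, fun h => hSR h.symm⟩
  have d2 := d1.mono_right hsup
  have hs0 : s = 0 := by
    refine (Submodule.disjoint_def.1 d2) s hs ?_
    have : s = -(t + r) := by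
      rw [add_assoc] at h0
      exact eq_neg_of_add_eq_zero_left h0
    rw [this]
    exact (T ⊔ R).neg_mem ((T ⊔ R).add_mem (Submodule.mem_sup_left ht) (Submodule.mem_sup_right hr))
  subst hs0
  rw [zero_add] at h0
  have ht0 : t = 0 := by
    refine H.disj hT hR hTR ht ?_
    rw [eq_neg_of_add_eq_zero_left h0]
    exact R.neg_mem hr
  subst ht0
  rw [zero_add] at h0
  exact ⟨rfl, rfl, h0⟩

/-- the stabiliser of `s + t` fixes or swaps `s` and `t` -/
theorem Sys.fix_or_swap (H : Sys G {S, T, R}) (hST : S ≠ T) (hSR : S ≠ R) (hTR : T ≠ R) {s t : V} (hs : s ∈ S)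
    (ht : t ∈ T) (hs0 : s ≠ 0) (ht0 : t ≠ 0) {g : V ≃ₗ[ZMod p] V} (hg : g ∈ G) (hgst : g (s + t) = s + t) :
    (g s = s ∧ g t = t) ∨ (g s = t ∧ g t = s) := by
  have hS : S ∈ ({S, T, R} : Set (Submodule (ZMod p) V)) := Or.inl rfl
  have hT : T ∈ ({S, T, R} : Set (Submodule (ZMod p) V)) := Or.inr (Or.inl rfl)
  have hinj : Function.Injective (Submodule.map (g : V →ₗ[ZMod p] V)) := Submodule.map_injective_of_injective g.injective
  have gs0 : g s ≠ 0 := fun h => hs0 ((LinearEquiv.map_eq_zero_iff g).1 h)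
  have gt0 : g t ≠ 0 := fun h => ht0 ((LinearEquiv.map_eq_zero_iff g).1 h)
  have e : g s + g t = s + t := by rw [← map_add, hgst]
  have m1 : g s ∈ S.map (g : V →ₗ[ZMod p] V) := ⟨s, hs, rfl⟩
  have m2 : g t ∈ T.map (g : V →ₗ[ZMod p] V) := ⟨t, ht, rfl⟩
  have hne : S.map (g : V →ₗ[ZMod p] V) ≠ T.map (g : V →ₗ[ZMod p] V) := fun h => hST (hinj h)
  rcases H.perm g hg S hS with h1 | h1 | h1 <;> rcases H.perm g hg T hT with h2 | h2 | h2
  · exact absurd (h1.trans h2.symm) hne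
  · rw [h1] at m1; rw [h2] at m2
    have := H.sum3 hST hSR hTR (s := g s - s) (t := g t - t) (r := 0) (S.sub_mem m1 hs) (T.sub_mem m2 ht)
      R.zero_mem (by rw [add_zero, sub_add_sub_comm, e, sub_self])
    exact Or.inl ⟨sub_eq_zero.1 this.1, sub_eq_zero.1 this.2.1⟩
  · rw [h1] at m1
    have h2' : T.map (g : V →ₗ[ZMod p] V) = R := h2
    rw [h2'] at m2
    have := H.sum3 hST hSR hTR (s := g s - s) (t := -t) (r := g t) (S.sub_mem m1 hs) (T.neg_mem ht)
      m2 (by rw [show g s - s + -t + g t = (g s + g t) - (s + t) by abel, e, sub_self])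
    exact absurd this.2.2 gt0
  · rw [h1] at m1; rw [h2] at m2
    have := H.sum3 hST hSR hTR (s := g t - s) (t := g s - t) (r := 0) (S.sub_mem m2 hs) (T.sub_mem m1 ht)
      R.zero_mem (by rw [add_zero, show g t - s + (g s - t) = (g s + g t) - (s + t) by abel, e, sub_self])
    exact Or.inr ⟨sub_eq_zero.1 this.2.1, sub_eq_zero.1 this.1⟩
  · exact absurd (h1.trans h2.symm) hne
  · rw [h1] at m1
    have h2' : T.map (g : V →ₗ[ZMod p] V) = R := h2
    rw [h2'] at m2
    have := H.sum3 hST hSR hTR (s := -s) (t := g s - t) (r := g t) (S.neg_mem hs) (T.sub_mem m1 ht)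
      m2 (by rw [show -s + (g s - t) + g t = (g s + g t) - (s + t) by abel, e, sub_self])
    exact absurd this.2.2 gt0
  · have h1' : S.map (g : V →ₗ[ZMod p] V) = R := h1
    rw [h1'] at m1; rw [h2] at m2
    have := H.sum3 hST hSR hTR (s := g t - s) (t := -t) (r := g s) (S.sub_mem m2 hs) (T.neg_mem ht)
      m1 (by rw [show g t - s + -t + g s = (g s + g t) - (s + t) by abel, e, sub_self])
    exact absurd this.2.2 gs0
  · have h1' : S.map (g : V →ₗ[ZMod p] V) = R := h1
    rw [h1'] at m1; rw [h2] at m2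
    have := H.sum3 hST hSR hTR (s := -s) (t := g t - t) (r := g s) (S.neg_mem hs) (T.sub_mem m2 ht)
      m1 (by rw [show -s + (g t - t) + g s = (g s + g t) - (s + t) by abel, e, sub_self])
    exact absurd this.2.2 gs0
  · exact absurd ((show S.map (g : V →ₗ[ZMod p] V) = R from h1).trans (show T.map (g : V →ₗ[ZMod p] V) = R from h2).symm) hne

theorem Sys.half_le (H : Sys G {S, T, R}) (hST : S ≠ T) (hSR : S ≠ R) (hTR : T ≠ R) (hh : Half G h)
    {s t : V} (hs : s ∈ S) (ht : t ∈ T) (hs0 : s ≠ 0) (ht0 : t ≠ 0) :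
    h ≤ 2 * Nat.card (stabilizer G s ⊓ stabilizer G t : Subgroup G) := by
  have hst : s + t ≠ 0 := by
    intro h0
    have := H.sum3 hST hSR hTR hs ht R.zero_mem (by rw [add_zero]; exact h0)
    exact hs0 this.1
  set D := stabilizer G s ⊓ stabilizer G t with hD
  set P := stabilizer G (s + t) with hP
  have hle : D ≤ P := by
    intro g hg
    change g • (s + t) = s + t
    rw [smul_add, hg.1, hg.2]
  have hidx : D.relIndex P ≤ 2 := by
    by_cases hex : ∃ a ∈ P, a ∉ D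
    · obtain ⟨a, ha, haD⟩ := hex
      have hmul : ∀ b ∈ P, b ∉ D → b * a ∈ D := by
        intro b hb hbD
        have e1 : ∀ c ∈ P, c ∉ D → c • s = t ∧ c • t = s := by
          intro c hc hcD
          rcases H.fix_or_swap hST hSR hTR hs ht hs0 ht0 c.2 hc with h1 | h1
          · exact absurd ⟨h1.1, h1.2⟩ hcD
          · exact h1
        have ea := e1 a ha haD
        have eb := e1 b hb hbD
        refine ⟨?_, ?_⟩
        · change (b * a) • s = s
          rw [mul_smul, ea.1, eb.2]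
        · change (b * a) • t = t
          rw [mul_smul, ea.2, eb.1]
      have h2 : (D.subgroupOf P).index = 2 := by
        rw [Subgroup.index_eq_two_iff]
        refine ⟨⟨a, ha⟩, fun b => ?_⟩
        by_cases hb : b.1 ∈ D
        · right
          refine ⟨hb, fun h => haD ?_⟩
          have h' : b.1 * a ∈ D := h
          simpa using D.mul_mem (D.inv_mem hb) h'
        · left
          exact ⟨hmul b.1 b.2 hb, hb⟩
      exact h2.le
    · push Not at hex
      have : D.relIndex P = 1 := Subgroup.relIndex_eq_one.2 hex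
      omega
  have h3 := card_mul_relIndex hle
  rw [← hh _ hst, ← h3, mul_comm]
  exact Nat.mul_le_mul_right _ hidx

/-- on a one-dimensional block an element stabilising the block is a scalar -/
theorem Sys.scalar (hn : Module.finrank (ZMod p) S = 1) {g : V ≃ₗ[ZMod p] V}
    (hg : S.map (g : V →ₗ[ZMod p] V) = S) :
    ∃ c : ZMod p, ∀ v ∈ S, g v = c • v := by
  obtain ⟨x₀, hx₀, hgen⟩ := finrank_eq_one_iff'.1 hn
  have h4 : g x₀.1 ∈ S := by
    have : g x₀.1 ∈ S.map (g : V →ₗ[ZMod p] V) := ⟨x₀.1, x₀.2, rfl⟩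
    rwa [hg] at this
  obtain ⟨t, ht⟩ := hgen ⟨_, h4⟩
  refine ⟨t, fun y hy => ?_⟩
  obtain ⟨s, hs⟩ := hgen ⟨y, hy⟩
  have e1 : y = s • x₀.1 := (congrArg Subtype.val hs).symm
  have e2 : g x₀.1 = t • x₀.1 := (congrArg Subtype.val ht).symm
  rw [e1, map_smul, e2, smul_comm]

theorem Sys.fix_block (H : Sys G B) {X : Submodule (ZMod p) V} (hX : X ∈ B) (hn : Module.finrank (ZMod p) X = 1)
    {x : V} (hx : x ∈ X) (hx0 : x ≠ 0) {g : V ≃ₗ[ZMod p] V} (hg : g ∈ G) (hgx : g x = x) : ∀ v ∈ X, g v = v := by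
  obtain ⟨c, hc⟩ := Sys.scalar hn (H.map_eq hX hx hx0 hg hgx)
  have h1 := hc x hx
  rw [hgx] at h1
  have h2 : (c - 1) • x = 0 := by rw [sub_smul, one_smul, ← h1, sub_self]
  have h3 : c = 1 := sub_eq_zero.1 ((smul_eq_zero.1 h2).resolve_right hx0)
  intro v hv
  rw [hc v hv, h3, one_smul]

/-- the action on the blocks -/
noncomputable def Sys.permHom (H : Sys G B) : G →* Equiv.Perm B :=
  let mv : G → B → B := fun g X => ⟨X.1.map (g.1 : V →ₗ[ZMod p] V), H.perm g.1 g.2 X.1 X.2⟩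
  have mv_mul : ∀ (a b : G) (X : B), mv a (mv b X) = mv (a * b) X := by
    intro a b X
    apply Subtype.ext
    change (X.1.map (b.1 : V →ₗ[ZMod p] V)).map (a.1 : V →ₗ[ZMod p] V) = X.1.map ((a * b : G).1 : V →ₗ[ZMod p] V)
    rw [← Submodule.map_comp]; rfl
  have mv_one : ∀ X : B, mv 1 X = X := by
    intro X
    apply Subtype.ext
    exact Submodule.map_id X.1
  { toFun := fun g =>
      { toFun := mv g
        invFun := mv g⁻¹
        left_inv := fun X => by rw [mv_mul, inv_mul_cancel, mv_one]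
        right_inv := fun X => by rw [mv_mul, mul_inv_cancel, mv_one] }
    map_one' := by ext1 X; exact mv_one X
    map_mul' := by intro a b; ext1 X; exact (mv_mul a b X).symm }

theorem Sys.permHom_apply (H : Sys G B) (g : G) (X : B) :
    (H.permHom g X).1 = X.1.map (g.1 : V →ₗ[ZMod p] V) := rfl

theorem Sys.eq_one_of_fix (H : Sys G {S, T, R}) (hirr : Irr G) {g : V ≃ₗ[ZMod p] V}
    (h1 : ∀ v ∈ S, g v = v) (h2 : ∀ v ∈ T, g v = v) (h3 : ∀ v ∈ R, g v = v) : g = 1 := by
  have htop := H.iSup_top hirr subset_rfl H.nt.nonempty H.perm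
  apply LinearEquiv.ext
  intro v
  have hle : sSup ({S, T, R} : Set (Submodule (ZMod p) V)) ≤ LinearMap.eqLocus (g : V →ₗ[ZMod p] V) LinearMap.id := by
    refine sSup_le ?_
    rintro X (rfl | rfl | rfl)
    · exact h1
    · exact h2
    · exact h3
  have hv : v ∈ sSup ({S, T, R} : Set (Submodule (ZMod p) V)) := by rw [htop]; trivial
  exact hle hv

/-- three one-dimensional blocks: `h` divides 6 -/
theorem Sys.dvd_six (H : Sys G {S, T, R}) (hST : S ≠ T) (hSR : S ≠ R) (hTR : T ≠ R) (hirr : Irr G) (hh : Half G h)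
    (hnS : Module.finrank (ZMod p) S = 1) (hnT : Module.finrank (ZMod p) T = 1) (hnR : Module.finrank (ZMod p) R = 1)
    {s t r : V} (hs : s ∈ S) (ht : t ∈ T) (hr : r ∈ R) (hs0 : s ≠ 0) (ht0 : t ≠ 0) (hr0 : r ≠ 0) : h ∣ 6 := by
  classical
  have hS : S ∈ ({S, T, R} : Set (Submodule (ZMod p) V)) := Or.inl rfl
  have hT : T ∈ ({S, T, R} : Set (Submodule (ZMod p) V)) := Or.inr (Or.inl rfl)
  have hR : R ∈ ({S, T, R} : Set (Submodule (ZMod p) V)) := Or.inr (Or.inr rfl)
  have hv0 : s + t + r ≠ 0 := fun h0 => hs0 (H.sum3 hST hSR hTR hs ht hr h0).1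
  let f : stabilizer G (s + t + r) →* Equiv.Perm ({S, T, R} : Set (Submodule (ZMod p) V)) :=
    H.permHom.comp (stabilizer G (s + t + r)).subtype
  have hf : Function.Injective f := by
    rw [injective_iff_map_eq_one]
    intro g hg
    have e : ∀ X : ({S, T, R} : Set (Submodule (ZMod p) V)), X.1.map (g.1.1 : V →ₗ[ZMod p] V) = X.1 := by
      intro X
      have := congrArg (fun σ : Equiv.Perm ({S, T, R} : Set (Submodule (ZMod p) V)) => (σ X).1) hg
      exact this
    have hgv : g.1.1 (s + t + r) = s + t + r := g.2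
    have a1 : g.1.1 s ∈ S := by
      have : g.1.1 s ∈ S.map (g.1.1 : V →ₗ[ZMod p] V) := ⟨s, hs, rfl⟩
      rwa [e ⟨S, hS⟩] at this
    have a2 : g.1.1 t ∈ T := by
      have : g.1.1 t ∈ T.map (g.1.1 : V →ₗ[ZMod p] V) := ⟨t, ht, rfl⟩
      rwa [e ⟨T, hT⟩] at this
    have a3 : g.1.1 r ∈ R := by
      have : g.1.1 r ∈ R.map (g.1.1 : V →ₗ[ZMod p] V) := ⟨r, hr, rfl⟩
      rwa [e ⟨R, hR⟩] at this
    have hsum := H.sum3 hST hSR hTR (s := g.1.1 s - s) (t := g.1.1 t - t) (r := g.1.1 r - r)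
      (S.sub_mem a1 hs) (T.sub_mem a2 ht) (R.sub_mem a3 hr) (by
        rw [map_add, map_add] at hgv
        rw [show g.1.1 s - s + (g.1.1 t - t) + (g.1.1 r - r) =
          (g.1.1 s + g.1.1 t + g.1.1 r) - (s + t + r) by abel, hgv, sub_self])
    have := H.eq_one_of_fix hirr
      (H.fix_block hS hnS hs hs0 g.1.2 (sub_eq_zero.1 hsum.1))
      (H.fix_block hT hnT ht ht0 g.1.2 (sub_eq_zero.1 hsum.2.1))
      (H.fix_block hR hnR hr hr0 g.1.2 (sub_eq_zero.1 hsum.2.2))
    exact Subtype.ext (Subtype.ext this)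
  have h1 := Subgroup.card_dvd_of_injective f hf
  rw [hh _ hv0, Nat.card_perm, Nat.card_coe_set_eq, Set.ncard_eq_three.2 ⟨S, T, R, hST, hSR, hTR, rfl⟩] at h1
  exact h1

theorem Sys.three_false' (H : Sys G {S, T, R}) (hST : S ≠ T) (hSR : S ≠ R) (hTR : T ≠ R) (hirr : Irr G) (hh : Half G h)
    (h2 : 2 ≤ h) (hnS : Module.finrank (ZMod p) S = 1) (hnT : Module.finrank (ZMod p) T = 1)
    (hnR : Module.finrank (ZMod p) R = 1) (hp7 : 7 ≤ p) : False := by
  classical
  have hS : S ∈ ({S, T, R} : Set (Submodule (ZMod p) V)) := Or.inl rfl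
  have hT : T ∈ ({S, T, R} : Set (Submodule (ZMod p) V)) := Or.inr (Or.inl rfl)
  have hR : R ∈ ({S, T, R} : Set (Submodule (ZMod p) V)) := Or.inr (Or.inr rfl)
  obtain ⟨s, hs, hs0⟩ := Submodule.exists_mem_ne_zero_of_ne_bot (H.ne S hS)
  obtain ⟨t, ht, ht0⟩ := Submodule.exists_mem_ne_zero_of_ne_bot (H.ne T hT)
  obtain ⟨r, hr, hr0⟩ := Submodule.exists_mem_ne_zero_of_ne_bot (H.ne R hR)
  have h6 := H.dvd_six hST hSR hTR hirr hh hnS hnT hnR hs ht hr hs0 ht0 hr0
  have H' : Sys G {S, R, T} := by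
    have : ({S, R, T} : Set (Submodule (ZMod p) V)) = {S, T, R} := by
      rw [Set.pair_comm R T]
    rw [this]; exact H
  have d3 := H.half_le hST hSR hTR hh hs ht hs0 ht0
  have d2 := H'.half_le hSR hST hTR.symm hh hs hr hs0 hr0
  have fS := fun (g : G) (hg : g • s = s) => H.fix_block hS hnS hs hs0 g.2 hg
  have fT := fun (g : G) (hg : g • t = t) => H.fix_block hT hnT ht ht0 g.2 hg
  have fR := fun (g : G) (hg : g • r = r) => H.fix_block hR hnR hr hr0 g.2 hg
  -- the product of the two subgroups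
  have hprod : Nat.card (stabilizer G s ⊓ stabilizer G t : Subgroup G) *
      Nat.card (stabilizer G s ⊓ stabilizer G r : Subgroup G) ≤ h := by
    rw [← hh s hs0, ← Nat.card_prod]
    refine Nat.card_le_card_of_injective
      (fun z => (⟨z.1.1 * z.2.1, (stabilizer G s).mul_mem z.1.2.1 z.2.2.1⟩ : stabilizer G s)) ?_
    rintro ⟨⟨a, ha⟩, ⟨b, hb⟩⟩ ⟨⟨a', ha'⟩, ⟨b', hb'⟩⟩ heq
    have e : a * b = a' * b' := congrArg Subtype.val heq
    have e1 : a'⁻¹ * a = b' * b⁻¹ := by
      rw [inv_mul_eq_iff_eq_mul, ← mul_assoc, ← e, mul_assoc, mul_inv_cancel, mul_one]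
    have m1 : a'⁻¹ * a ∈ stabilizer G s ⊓ stabilizer G t := Subgroup.mul_mem _ (Subgroup.inv_mem _ ha') ha
    have m2 : a'⁻¹ * a ∈ stabilizer G s ⊓ stabilizer G r := by
      rw [e1]; exact Subgroup.mul_mem _ hb' (Subgroup.inv_mem _ hb)
    have h1 : a'⁻¹ * a = 1 := Subtype.ext (H.eq_one_of_fix hirr (fS _ m1.1) (fT _ m1.2) (fR _ m2.2))
    have h3 : a = a' := by rw [inv_mul_eq_one] at h1; exact h1.symm
    subst h3
    have h4 : b = b' := mul_left_cancel e
    subst h4
    rfl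
  -- `D = 1`
  have hD : ∀ g : G, g • s = s → g • t = t → g = 1 := by
    intro g hgs hgt
    by_contra hne
    obtain ⟨a, ha, haR⟩ := H.trans hirr hR hT
    let a' : G := ⟨a, ha⟩
    -- `a g a⁻¹` is trivial on `S` and `R`
    have hconj : ∀ X ∈ ({S, T, R} : Set (Submodule (ZMod p) V)), X ≠ R → ∀ v ∈ X.map (a : V →ₗ[ZMod p] V),
        (a' * g * a'⁻¹) • v = v := by
      rintro X hX hXR _ ⟨w, hw, rfl⟩
      have h1 : g • w = w := by
        rcases hX with rfl | rfl | h
        · exact fS g hgs w hw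
        · exact fT g hgt w hw
        · exact absurd h hXR
      change (a' * g * a'⁻¹) • (a' • w) = a' • w
      rw [mul_smul, mul_smul, inv_smul_smul, h1]
    have hinj : Function.Injective (Submodule.map (a : V →ₗ[ZMod p] V)) := Submodule.map_injective_of_injective a.injective
    -- the images of `S`, `T` are `S`, `R` in some order
    have himg : ∀ Y ∈ ({S, T, R} : Set (Submodule (ZMod p) V)), Y ≠ T →
        ∃ X ∈ ({S, T, R} : Set (Submodule (ZMod p) V)), X ≠ R ∧ X.map (a : V →ₗ[ZMod p] V) = Y := by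
      intro Y hY hYT
      obtain ⟨X, hX⟩ := (H.permHom a').surjective ⟨Y, hY⟩
      have hX' : X.1.map (a : V →ₗ[ZMod p] V) = Y := congrArg Subtype.val hX
      refine ⟨X.1, X.2, ?_, hX'⟩
      intro h
      rw [h, haR] at hX'
      exact hYT hX'.symm
    have hkS : (a' * g * a'⁻¹) • s = s := by
      obtain ⟨X, hX, hXR, hXe⟩ := himg S hS hST
      exact hconj X hX hXR s (by rw [hXe]; exact hs)
    have hkR : (a' * g * a'⁻¹) • r = r := by
      obtain ⟨X, hX, hXR, hXe⟩ := himg R hR hTR.symm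
      exact hconj X hX hXR r (by rw [hXe]; exact hr)
    have hkne : a' * g * a'⁻¹ ≠ 1 := by
      intro h
      rw [mul_inv_eq_one, mul_eq_left] at h
      exact hne h
    have c3 : 2 ≤ Nat.card (stabilizer G s ⊓ stabilizer G t : Subgroup G) := by
      have : Nontrivial (stabilizer G s ⊓ stabilizer G t : Subgroup G) :=
        ⟨⟨⟨g, hgs, hgt⟩, 1, fun h => hne (congrArg Subtype.val h)⟩⟩
      exact Finite.one_lt_card
    have c2 : 2 ≤ Nat.card (stabilizer G s ⊓ stabilizer G r : Subgroup G) := by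
      have : Nontrivial (stabilizer G s ⊓ stabilizer G r : Subgroup G) :=
        ⟨⟨⟨a' * g * a'⁻¹, hkS, hkR⟩, 1, fun h => hkne (congrArg Subtype.val h)⟩⟩
      exact Finite.one_lt_card
    have h4 : h = 4 := by nlinarith
    rw [h4] at h6
    revert h6; decide
  have hh2 : h = 2 := by
    have : Nat.card (stabilizer G s ⊓ stabilizer G t : Subgroup G) = 1 := by
      rw [Subgroup.card_eq_one, eq_bot_iff]
      intro g hg
      rw [Subgroup.mem_bot]
      exact hD g hg.1 hg.2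
    omega
  -- swapping elements
  have hsw : ∀ c : ZMod p, c ≠ 0 → ∃ g : G, g • s = c • t ∧ g • (c • t) = s := by
    intro c hc
    have hct : c • t ≠ 0 := smul_ne_zero hc ht0
    have hst : s + c • t ≠ 0 := by
      intro h0
      have := H.sum3 hST hSR hTR hs (T.smul_mem c ht) R.zero_mem (by rw [add_zero]; exact h0)
      exact hs0 this.1
    have h1 := hh _ hst
    rw [hh2] at h1
    have : Nontrivial (stabilizer G (s + c • t)) := by
      rw [← Finite.one_lt_card_iff_nontrivial]; omega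
    obtain ⟨g, hg⟩ := exists_ne (1 : stabilizer G (s + c • t))
    rcases H.fix_or_swap hST hSR hTR hs (T.smul_mem c ht) hs0 hct g.1.2 g.2 with h3 | h3
    · exfalso
      apply hg
      apply Subtype.ext
      apply hD g.1 h3.1
      have h4 : g.1 • (c • t) = c • t := h3.2
      have h5 : c • (g.1 • t) = c • t := (map_smul g.1.1 c t).symm.trans h4
      have h6 : c • (g.1 • t - t) = 0 := by rw [smul_sub, h5, sub_self]
      exact sub_eq_zero.1 ((smul_eq_zero.1 h6).resolve_left hc)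
    · exact ⟨g.1, h3.1, h3.2⟩
  -- `c = 1` and `c = 3`
  obtain ⟨g₁, hg₁, hg₁'⟩ := hsw 1 one_ne_zero
  rw [one_smul] at hg₁ hg₁'
  have h3p : (3 : ZMod p) ≠ 0 := by
    intro h
    have : ((3 : ℕ) : ZMod p) = 0 := by exact_mod_cast h
    rw [ZMod.natCast_eq_zero_iff] at this
    have := Nat.le_of_dvd (by norm_num) this
    omega
  obtain ⟨g₂, hg₂, hg₂'⟩ := hsw 3 h3p
  have sq1 : g₁ * g₁ = 1 := hD _ (by rw [mul_smul, hg₁, hg₁']) (by rw [mul_smul, hg₁', hg₁])
  have hlin : ∀ (g : G) (c : ZMod p) (v : V), g • (c • v) = c • (g • v) := fun g c v => map_smul g.1.1 c v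
  have sq2 : g₂ * g₂ = 1 := by
    refine hD _ (by rw [mul_smul, hg₂, hg₂']) ?_
    have h1 : (g₂ * g₂) • ((3 : ZMod p) • t) = (3 : ZMod p) • t := by rw [mul_smul, hg₂', hg₂]
    rw [hlin] at h1
    have h2 : (3 : ZMod p) • ((g₂ * g₂) • t - t) = 0 := by rw [smul_sub, h1, sub_self]
    exact sub_eq_zero.1 ((smul_eq_zero.1 h2).resolve_left h3p)
  -- both stabilise the third block
  have hR3 : ∀ g : G, ∀ c : ZMod p, c ≠ 0 → g • s = c • t → g • (c • t) = s → g * g = 1 →
      ∃ e : ZMod p, e * e = 1 ∧ g • r = e • r := by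
    intro g c hc hgs hgt hgg
    have hgS : S.map (g.1 : V →ₗ[ZMod p] V) = T := by
      by_contra hne
      have h1 : c • t ∈ S.map (g.1 : V →ₗ[ZMod p] V) := ⟨s, hs, hgs⟩
      exact (smul_ne_zero hc ht0) (H.disj (H.perm g.1 g.2 S hS) hT hne h1 (T.smul_mem c ht))
    have hgT : T.map (g.1 : V →ₗ[ZMod p] V) = S := by
      by_contra hne
      have h1 : s ∈ T.map (g.1 : V →ₗ[ZMod p] V) := ⟨c • t, T.smul_mem c ht, hgt⟩
      exact hs0 (H.disj (H.perm g.1 g.2 T hT) hS hne h1 hs)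
    have hinj : Function.Injective (Submodule.map (g.1 : V →ₗ[ZMod p] V)) := Submodule.map_injective_of_injective g.1.injective
    have hgR : R.map (g.1 : V →ₗ[ZMod p] V) = R := by
      rcases H.perm g.1 g.2 R hR with h | h | h
      · exact absurd (hinj (h.trans hgT.symm)) hTR.symm
      · exact absurd (hinj (h.trans hgS.symm)) hSR.symm
      · exact h
    obtain ⟨e, he⟩ := Sys.scalar hnR hgR
    have he' : g • r = e • r := he r hr
    refine ⟨e, ?_, he'⟩
    have h1 : (g * g) • r = r := by rw [hgg, one_smul]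
    rw [mul_smul, he', hlin, he', smul_smul] at h1
    have h2 : (e * e - 1) • r = 0 := by rw [sub_smul, h1, one_smul, sub_self]
    exact sub_eq_zero.1 ((smul_eq_zero.1 h2).resolve_right hr0)
  obtain ⟨e₁, he₁, hr₁⟩ := hR3 g₁ 1 one_ne_zero (by rw [one_smul]; exact hg₁) (by rw [one_smul]; exact hg₁') sq1
  obtain ⟨e₂, he₂, hr₂⟩ := hR3 g₂ 3 h3p hg₂ hg₂' sq2
  obtain ⟨k, hk⟩ : ∃ k, k = g₁ * g₂ := ⟨_, rfl⟩
  have hks : k • s = (3 : ZMod p) • s := by rw [hk, mul_smul, hg₂, hlin, hg₁']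
  have hkr : k • r = (e₂ * e₁) • r := by rw [hk, mul_smul, hr₂, hlin, hr₁, smul_smul]
  have hkkr : (k * k) • r = r := by
    rw [mul_smul, hkr, hlin, hkr, smul_smul]
    have : e₂ * e₁ * (e₂ * e₁) = (e₂ * e₂) * (e₁ * e₁) := by ring
    rw [this, he₁, he₂, one_mul, one_smul]
  have h4 : (k * k) * (k * k) = 1 := by
    have h5 : Nat.card (stabilizer G r) = 2 := by rw [hh _ hr0, hh2]
    have h6 : (⟨k * k, hkkr⟩ : stabilizer G r) ^ Nat.card (stabilizer G r) = 1 := pow_card_eq_one'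
    rw [h5, sq] at h6
    exact congrArg Subtype.val h6
  have hkks : (k * k) • s = (9 : ZMod p) • s := by
    rw [mul_smul, hks, hlin, hks, smul_smul]
    norm_num
  have h5 : ((k * k) * (k * k)) • s = (81 : ZMod p) • s := by
    rw [mul_smul, hkks, hlin, hkks, smul_smul]
    norm_num
  rw [h4, one_smul] at h5
  have h6 : (80 : ZMod p) • s = 0 := by
    have : (80 : ZMod p) = 81 - 1 := by norm_num
    rw [this, sub_smul, ← h5, one_smul, sub_self]
  have h7 : ((80 : ℕ) : ZMod p) = 0 := by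
    have := (smul_eq_zero.1 h6).resolve_right hs0
    exact_mod_cast this
  rw [ZMod.natCast_eq_zero_iff] at h7
  have hp : p.Prime := Fact.out
  have h8 : p ∣ 2 ^ 4 * 5 := by simpa using h7
  rcases hp.dvd_mul.1 h8 with h9 | h9
  · have := Nat.le_of_dvd (by norm_num) (hp.dvd_of_dvd_pow h9)
    omega
  · have := Nat.le_of_dvd (by norm_num) h9
    omega

end tri

theorem num_three {p m : ℕ} (hp : p.Prime) (hp2 : p ≠ 2) (h2 : m ∣ p ^ 3 - 1) (h1 : m ∣ 3 * (p - 1))
    (h3 : p ^ 3 ≤ 2 * m ^ 2) : 7 ≤ p := by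
  by_contra hlt
  push Not at hlt
  have hp2' := hp.two_le
  interval_cases p
  · exact hp2 rfl
  · have h5 : m ∣ Nat.gcd (3 ^ 3 - 1) (3 * (3 - 1)) := Nat.dvd_gcd h2 h1
    have h6 : Nat.gcd (3 ^ 3 - 1) (3 * (3 - 1)) = 2 := by norm_num
    rw [h6] at h5
    have h7 := Nat.le_of_dvd (by norm_num) h5
    nlinarith
  · exact absurd hp (by norm_num)
  · have h5 : m ∣ Nat.gcd (5 ^ 3 - 1) (3 * (5 - 1)) := Nat.dvd_gcd h2 h1
    have h6 : Nat.gcd (5 ^ 3 - 1) (3 * (5 - 1)) = 4 := by norm_num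
    rw [h6] at h5
    have h7 := Nat.le_of_dvd (by norm_num) h5
    nlinarith
  · exact absurd hp (by norm_num)

/-- **Imprimitive coprime half-transitive linear groups with `h ≥ 2` (no insolubility).**
Either `h = 2`, `|V| = r²`, `|G| = 4 (r - 1)`, or `p = 3`, there are four one-dimensional blocks, `|V| = 81`
and `G` is soluble. -/
theorem Sys.cases (H : Sys G B) (hp2 : p ≠ 2) (hh : Half G h) (h2 : 2 ≤ h) (hG : ¬ p ∣ Nat.card G)
    (hirr : Irr G) :
    (h = 2 ∧ ∃ r, Nat.card V = r ^ 2 ∧ Nat.card G = 4 * (r - 1) ∧ 3 ≤ r) ∨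
      (p = 3 ∧ Nat.card V = 81 ∧ Group.IsSolvable G) := by
  classical
  obtain ⟨X, hX⟩ := H.nt.nonempty
  obtain ⟨n, hnX⟩ : ∃ n, Module.finrank (ZMod p) X = n := ⟨_, rfl⟩
  have hn : ∀ Y ∈ B, Module.finrank (ZMod p) Y = n := fun Y hY => by rw [H.card_block hirr hY hX, hnX]
  have hn1 : 1 ≤ n := by
    rw [← hnX]
    have : Nontrivial X := Submodule.nontrivial_iff_ne_bot.2 (H.ne X hX)
    exact Module.finrank_pos
  obtain ⟨x, hxX, hx0⟩ := Submodule.exists_mem_ne_zero_of_ne_bot (H.ne X hX)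
  obtain ⟨m, hm, hm0⟩ := exists_m hh ⟨x, hx0⟩
  have hBf : B.Finite := Set.toFinite B
  have hk2 : 2 ≤ B.ncard := Set.one_lt_ncard_iff_nontrivial.2 H.nt
  rcases Nat.lt_or_ge 2 B.ncard with hk | hk
  · have c1 : m ∣ B.ncard * (p ^ n - 1) := by
      rw [← H.card_union hn]
      refine dvd_invariant hh (by omega) hm _ (fun h => h.1 rfl) ?_
      rintro g hg v ⟨hv0, Y, hY, hvY⟩
      refine ⟨fun h => hv0 ((LinearEquiv.map_eq_zero_iff g).1 h), _, H.perm g hg Y hY, ⟨v, hvY, rfl⟩⟩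
    have hV : Nat.card V = (p ^ n) ^ B.ncard := by
      rw [card_eq_pow (p := p), H.finrank_eq hirr hn, mul_comm, pow_mul]
    have c2 : m ∣ (p ^ n) ^ B.ncard - 1 := by
      rw [← hV]
      exact dvd_card_sub_one hh (by omega) hm
    have c3 : (p ^ n) ^ B.ncard ≤ 2 * m ^ 2 := by
      rw [← hV]
      exact card_le hG hh h2 hm
    obtain ⟨rfl, hk4⟩ := num_k (Fact.out : p.Prime) hp2 hn1 hk c1 c2 c3
    rw [pow_one] at c1 c2 c3 hV
    have hsol := H.solvable_of_one hirr hn hk4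
    rcases Nat.lt_or_ge 3 B.ncard with hk' | hk'
    · right
      have hk'' : B.ncard = 4 := by omega
      rw [hk''] at c1 c3 hV
      have hp : p.Prime := Fact.out
      have hp3 : p = 3 := by
        have hp2' := hp.two_le
        have hmle : m ≤ 4 * (p - 1) := Nat.le_of_dvd (by omega) c1
        obtain ⟨r, rfl⟩ : ∃ r, p = r + 1 := ⟨p - 1, by omega⟩
        simp only [Nat.add_sub_cancel] at hmle
        have h4 : m ^ 2 ≤ (4 * r) ^ 2 := Nat.pow_le_pow_left hmle 2
        have h5 : (r + 1) ^ 4 ≤ 32 * r ^ 2 := by nlinarith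
        by_contra hne
        have h6 : 3 ≤ r := by omega
        rcases Nat.lt_or_ge r 4 with h7 | h7
        · have : r = 3 := by omega
          subst this
          exact absurd hp (by norm_num)
        · have h8 : 32 * r ^ 2 < (r + 1) ^ 4 := by
            nlinarith [sq_nonneg (r : ℤ), Nat.mul_le_mul h7 h7, pow_pos (show 0 < r by omega) 3]
          omega
      subst hp3
      exact ⟨rfl, by rw [hV]; norm_num, hsol⟩
    · exfalso
      have hk'' : B.ncard = 3 := by omega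
      rw [hk''] at c1 c2 c3
      have hp7 := num_three (Fact.out : p.Prime) hp2 c2 c1 c3
      obtain ⟨S, T, R, hST, hSR, hTR, rfl⟩ := Set.ncard_eq_three.1 hk''
      exact H.three_false' hST hSR hTR hirr hh h2 (hn S (Or.inl rfl)) (hn T (Or.inr (Or.inl rfl)))
        (hn R (Or.inr (Or.inr rfl))) hp7
  · exact Or.inl (H.two (by omega) hp2 hh h2 hirr)

end Cfsg.Agent.H960.HT
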