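import Cfsg.Agent.H960.HT.Perf
import Cfsg.Agent.SignalizersComponents.Components

/-! S3540: the induction (reduction to the quasisimple rows, several components, `E(G) = 1` and `SL(2,5)`). -/

set_option autoImplicit false
set_option linter.unusedSectionVars false
set_option linter.unusedVariables false

namespace Cfsg.Agent.H960.HT

open MulAction Cfsg.Agent.H828.HT Cfsg.Agent.PermutationGroups.AutSL25 Cfsg.Agent.H337.HT
open Cfsg.Agent.SignalizersComponents.Components
open scoped commutatorElement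

universe u

/-- The quasisimple rows. -/
def QSRow : Prop := ∀ (p : ℕ) [Fact p.Prime] (V : Type u) [AddCommGroup V] [Module (ZMod p) V] [Finite V]
  (K : Type u) [Field K] [Module K V] (G L : Subgroup (V ≃ₗ[ZMod p] V)) (h : ℕ), QS p K V G L h →
  Module.finrank K V = 2

/-- Several components. -/
def CompsRow : Prop := ∀ (p : ℕ) [Fact p.Prime] (V : Type u) [AddCommGroup V] [Module (ZMod p) V] [Finite V]
  (G : Subgroup (V ≃ₗ[ZMod p] V)) (h : ℕ), p ≠ 2 → Half G h → 2 ≤ h → ¬ p ∣ Nat.card G →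
  ∀ (k : ℕ), 2 ≤ k → ∀ (L : Fin k → Subgroup (V ≃ₗ[ZMod p] V)), Function.Injective L → (∀ i, L i ≤ G) →
  (∀ i, Cfsg.IsQuasisimple (L i)) → (∀ i j, i ≠ j → ∀ x ∈ L i, ∀ y ∈ L j, x * y = y * x) →
  (∀ g ∈ G, ∀ i, ∃ j, ∀ x ∈ L i, g * x * g⁻¹ ∈ L j) → (∀ i j, ∃ g ∈ G, ∀ x ∈ L i, g * x * g⁻¹ ∈ L j) →
  Irr (⨆ i, L i : Subgroup (V ≃ₗ[ZMod p] V)) → False

/-- `G` has only homogeneous normal subgroups. -/
def AllHomog {p : ℕ} [Fact p.Prime] {V : Type u} [AddCommGroup V] [Module (ZMod p) V]
    (G : Subgroup (V ≃ₗ[ZMod p] V)) : Prop :=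
  ∀ N ≤ G, (∀ g ∈ G, ∀ n ∈ N, g * n * g⁻¹ ∈ N) → Homog N

/-- `E(G) = 1`. -/
def E1Row : Prop := ∀ (p : ℕ) [Fact p.Prime] (V : Type u) [AddCommGroup V] [Module (ZMod p) V] [Finite V]
  (G : Subgroup (V ≃ₗ[ZMod p] V)) (h : ℕ), p ≠ 2 → Half G h → 2 ≤ h → ¬ p ∣ Nat.card G →
  ¬ Group.IsSolvable G → Irr G → AllHomog G → (∀ L : Subgroup G, ¬ Cfsg.IsComponent L) → False

/-- A normal `SL(2,5)`. -/
def SL5Row : Prop := ∀ (p : ℕ) [Fact p.Prime] (V : Type u) [AddCommGroup V] [Module (ZMod p) V] [Finite V]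
  (G : Subgroup (V ≃ₗ[ZMod p] V)) (h : ℕ), p ≠ 2 → Half G h → 2 ≤ h → ¬ p ∣ Nat.card G → Irr G → AllHomog G →
  ∀ S ≤ G, (∀ g ∈ G, ∀ s ∈ S, g * s * g⁻¹ ∈ S) → Nonempty (S ≃* Matrix.SpecialLinearGroup (Fin 2) (ZMod 5)) →
  Lst p V

/-- The inputs of the assembly. -/
structure Ext : Prop where
  her : HerHyp.{u}
  qs : QSRow.{u}
  comps : CompsRow.{u}
  e1 : E1Row.{u}
  sl5 : SL5Row.{u}

variable {p : ℕ} [Fact p.Prime] {V : Type u} [AddCommGroup V] [Module (ZMod p) V] [Finite V]

theorem nontrivial_of_insoluble {G : Subgroup (V ≃ₗ[ZMod p] V)} (hins : ¬ Group.IsSolvable G) : Nontrivial V := by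
  by_contra hn
  rw [not_nontrivial_iff_subsingleton] at hn
  apply hins
  have : Subsingleton G := ⟨fun a b => Subtype.ext (LinearEquiv.ext fun v => Subsingleton.elim _ _)⟩
  infer_instance

theorem allHomog (hHer : HerHyp.{u}) (hp2 : p ≠ 2) {G : Subgroup (V ≃ₗ[ZMod p] V)} {h : ℕ} (hh : Half G h)
    (h2 : 2 ≤ h) (hG : ¬ p ∣ Nat.card G) (hins : ¬ Group.IsSolvable G) : AllHomog G := by
  have hnt := nontrivial_of_insoluble hins
  have hirr := irr_of_half hG hh h2
  intro N hN hnorm
  rcases clifford hirr hnorm with h1 | ⟨B, hB⟩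
  · exact h1
  · exact (hB.imp_false hHer hp2 hh h2 hG hirr hins).elim

/-- the restriction of a faithful normal subgroup -/
theorem exists_image {G E : Subgroup (V ≃ₗ[ZMod p] V)} (hE : E ≤ G) {M : Submodule (ZMod p) V} (hM : NIrr E M)
    (hf : ∀ n ∈ E, (∀ v ∈ M, n v = v) → n = 1) :
    ∃ X ≤ rs G M, Nonempty (E ≃* X) := by
  have hst : ∀ x ∈ E, x ∈ stb G M := by
    intro x hx
    refine ⟨hE hx, fun v => ⟨fun hv => hM.inv x hx v hv, fun hv => ?_⟩⟩
    have := hM.inv x⁻¹ (E.inv_mem hx) _ hv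
    have e : x⁻¹ (x v) = v := by
      change (x⁻¹ * x) v = v
      rw [inv_mul_cancel]; rfl
    rwa [e] at this
  let f : E →* (M ≃ₗ[ZMod p] M) := (res G M).comp (Subgroup.inclusion hst)
  have hinj : Function.Injective f := by
    rw [injective_iff_map_eq_one]
    intro x hx
    apply Subtype.ext
    apply hf x.1 x.2
    intro v hv
    have h1 := congrArg (fun e : M ≃ₗ[ZMod p] M => (e ⟨v, hv⟩ : V)) hx
    exact h1
  refine ⟨f.range, ?_, ⟨MonoidHom.ofInjective hinj⟩⟩
  rintro _ ⟨x, rfl⟩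
  exact ⟨_, rfl⟩

/-- the setting of the quasisimple rows -/
theorem exists_QS [Nontrivial V] {G E : Subgroup (V ≃ₗ[ZMod p] V)} {h : ℕ} (hh : Half G h) (h2 : 2 ≤ h)
    (hG : ¬ p ∣ Nat.card G) (hEG : E ≤ G) (hEnorm : ∀ g ∈ G, ∀ s ∈ E, g * s * g⁻¹ ∈ E)
    (hEq : Cfsg.IsQuasisimple E) (hEirr : Irr E) :
    ∃ (K : Type u) (_ : Field K) (_ : Module K V), QS p K V G E h := by
  refine ⟨Module.End (env E) V, endField hEirr, endModule hEirr, ?_⟩
  refine @QS.mk p _ (Module.End (env E) V) (endField hEirr) V _ _ (endModule hEirr) G E h hh h2 hG hEG hEnorm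
    hEq.1.commutator_eq_top hEq.2 ?_ ?_ ?_ hEirr
  · by_contra hc
    push Not at hc
    apply quasisimple_not_isSolvable hEq
    exact Group.isSolvable_of_comm (fun a b => Subtype.ext (hc a.1 a.2 b.1 b.2))
  · intro l hl c v
    exact (c.map_smul (⟨(l : V →ₗ[ZMod p] V), Algebra.subset_adjoin ⟨l, hl, rfl⟩⟩ : env E) v).symm
  · intro f hf
    exact ⟨endOf f hf, fun v => rfl⟩

/-- **The induction.** -/
theorem main (X : Ext.{u}) : ∀ (n : ℕ) (p : ℕ) [Fact p.Prime] (hp2 : p ≠ 2) (V : Type u) [AddCommGroup V]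
    [Module (ZMod p) V] [Finite V], Nat.card V = n → ∀ (G : Subgroup (V ≃ₗ[ZMod p] V)) (h : ℕ), Half G h → 2 ≤ h →
    ¬ p ∣ Nat.card G → ¬ Group.IsSolvable G →
    ∃ S ≤ G, (∀ g ∈ G, ∀ s ∈ S, g * s * g⁻¹ ∈ S) ∧ Nonempty (S ≃* SL25) ∧ Lst p V := by
  intro n
  induction n using Nat.strong_induction_on with
  | _ n ih =>
  intro p _ hp2 V _ _ _ hV G h hh h2 hG hins
  classical
  have hnt := nontrivial_of_insoluble hins
  have hirr := irr_of_half hG hh h2
  have hhom := allHomog X.her hp2 hh h2 hG hins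
  by_cases hcomp : ∃ L : Subgroup G, Cfsg.IsComponent L
  swap
  · push Not at hcomp
    exact (X.e1 p V G h hp2 hh h2 hG hins hirr hhom hcomp).elim
  obtain ⟨L₀, hL₀⟩ := hcomp
  have hL₀p : ⁅L₀, L₀⁆ = L₀ := by
    have := hL₀.2.1
    exact Subgroup.isPerfect_iff.1 this
  have hL₀n : L₀ ≠ ⊥ := by
    have := quasisimple_nontrivial hL₀.2
    exact (Subgroup.nontrivial_iff_ne_bot L₀).1 this
  set E₀ : Subgroup G := Subgroup.normalClosure (L₀ : Set G) with hE₀
  have hE₀n : E₀.Normal := Subgroup.normalClosure_normal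
  have hLE : L₀ ≤ E₀ := Subgroup.le_normalClosure
  have hE₀p : ⁅E₀, E₀⁆ = E₀ := by
    refine le_antisymm (Subgroup.commutator_le_right E₀ E₀) ?_
    have hn : (⁅E₀, E₀⁆ : Subgroup G).Normal := inferInstance
    refine Subgroup.normalClosure_le_normal ?_
    intro x hx
    have h1 : x ∈ ⁅L₀, L₀⁆ := by rw [hL₀p]; exact hx
    exact Subgroup.commutator_mono hLE hLE h1
  set E : Subgroup (V ≃ₗ[ZMod p] V) := E₀.map G.subtype with hE
  have hEG : E ≤ G := Subgroup.map_subtype_le E₀
  have hEnorm : ∀ g ∈ G, ∀ s ∈ E, g * s * g⁻¹ ∈ E := by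
    rintro g hg _ ⟨s, hs, rfl⟩
    refine ⟨(⟨g, hg⟩ : G) * s * (⟨g, hg⟩ : G)⁻¹, ?_, rfl⟩
    exact hE₀n.conj_mem s hs ⟨g, hg⟩
  have hEp : ⁅E, E⁆ = E := by rw [hE, ← Subgroup.map_commutator, hE₀p]
  have hEne : E ≠ ⊥ := by
    intro hb
    rw [hE, Subgroup.map_eq_bot_iff_of_injective _ G.subtype_injective] at hb
    apply hL₀n
    rw [eq_bot_iff, ← hb]
    exact hLE
  have hEhom : Homog E := hhom E hEG hEnorm
  have hEfaith : ∀ M : Submodule (ZMod p) V, NIrr E M → ∀ n ∈ E, (∀ v ∈ M, n v = v) → n = 1 :=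
    fun M hM n hn h => hEhom.faithful hirr hEnorm hM hn h
  have hiso : Nonempty (E ≃* SL25) := by
    by_cases hEirr : Irr E
    · by_cases hLn : L₀.Normal
      · -- one component
        have hEL : E₀ = L₀ := Subgroup.normalClosure_eq_self L₀
        have hEL' : E = L₀.map G.subtype := by rw [hE, hEL]
        have hEq : Cfsg.IsQuasisimple E := by
          rw [hEL']
          exact isQuasisimple_of_mulEquiv (L₀.equivMapOfInjective G.subtype G.subtype_injective) hL₀.2
        obtain ⟨K, hK1, hK2, hQS⟩ := exists_QS hh h2 hG hEG hEnorm hEq hEirr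
        have hfr := X.qs p V K G E h hQS
        have hpE : ¬ p ∣ Nat.card E := fun hd => hG (hd.trans (Subgroup.card_dvd_of_le hEG))
        have hsr := semireg_of_two (K := K) hQS.lin hQS.perf hpE hfr
        have hfpf := fpf_of_semireg E (fun g hg v hv hgv => hsr g hg v hv hgv)
        have htop : ⁅(⊤ : Subgroup E), ⊤⁆ = ⊤ := hQS.perf
        have htne : (⊤ : Subgroup E) ≠ ⊥ := by
          intro hb
          apply hEne
          rw [← Subgroup.card_eq_one, ← Subgroup.card_top, hb, Subgroup.card_bot]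
        obtain ⟨e⟩ := hfpf.perfect ⊤ htop htne
        exact ⟨Subgroup.topEquiv.symm.trans e⟩
      · -- several components
        exfalso
        let C : Set (Subgroup G) := {K | ∃ g : G, K = L₀.map (MulAut.conj g).toMonoidHom}
        have hCfin : Finite C := inferInstance
        let e : Fin (Nat.card C) ≃ C := (Finite.equivFin C).symm
        have hCcomp : ∀ K : C, Cfsg.IsComponent K.1 := by
          rintro ⟨_, g, rfl⟩
          exact isComponent_conj g hL₀
        have hL₀C : L₀ ∈ C := by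
          refine ⟨1, ?_⟩
          rw [map_one]
          exact (Subgroup.map_id L₀).symm
        have hconjC : ∀ (g : G) (K : C), K.1.map (MulAut.conj g).toMonoidHom ∈ C := by
          rintro g ⟨_, k, rfl⟩
          refine ⟨g * k, ?_⟩
          rw [Subgroup.map_map]
          congr 1
        have hk : 2 ≤ Nat.card C := by
          have : ∃ g : G, L₀.map (MulAut.conj g).toMonoidHom ≠ L₀ := by
            by_contra hc
            push Not at hc
            apply hLn
            constructor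
            intro l hl g
            have : MulAut.conj g l ∈ L₀.map (MulAut.conj g).toMonoidHom := ⟨l, hl, rfl⟩
            rw [hc g] at this
            exact this
          obtain ⟨g, hg⟩ := this
          have : Nontrivial C := ⟨⟨⟨_, g, rfl⟩, ⟨L₀, hL₀C⟩, fun h => hg (congrArg Subtype.val h)⟩⟩
          exact Finite.one_lt_card
        refine X.comps p V G h hp2 hh h2 hG (Nat.card C) hk (fun i => (e i).1.map G.subtype) ?_ ?_ ?_ ?_ ?_ ?_ ?_
        · intro i j hij
          have := Subgroup.map_injective G.subtype_injective hij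
          exact e.injective (Subtype.ext this)
        · intro i
          exact Subgroup.map_subtype_le _
        · intro i
          exact isQuasisimple_of_mulEquiv ((e i).1.equivMapOfInjective G.subtype G.subtype_injective) (hCcomp (e i)).2
        · rintro i j hij _ ⟨x, hx, rfl⟩ _ ⟨y, hy, rfl⟩
          have hne : (e i).1 ≠ (e j).1 := fun h => hij (e.injective (Subtype.ext h))
          have h1 := component_commutator_eq_bot_of_ne (hCcomp (e i)) (hCcomp (e j)) hne
          have h3 : ⁅x, y⁆ ∈ ⁅(e i).1, (e j).1⁆ := Subgroup.commutator_mem_commutator hx hy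
          rw [h1, Subgroup.mem_bot, commutatorElement_eq_one_iff_mul_comm] at h3
          exact congrArg Subtype.val h3
        · intro g hg i
          obtain ⟨j, hj⟩ := e.surjective ⟨_, hconjC ⟨g, hg⟩ (e i)⟩
          refine ⟨j, ?_⟩
          rintro _ ⟨x, hx, rfl⟩
          refine ⟨⟨g, hg⟩ * x * ⟨g, hg⟩⁻¹, ?_, rfl⟩
          have : (e j).1 = (e i).1.map (MulAut.conj (⟨g, hg⟩ : G)).toMonoidHom := congrArg Subtype.val hj
          rw [SetLike.mem_coe, this]
          exact ⟨x, hx, rfl⟩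
        · intro i j
          obtain ⟨a, ha⟩ := (e i).2
          obtain ⟨b, hb⟩ := (e j).2
          refine ⟨(b * a⁻¹ : G).1, (b * a⁻¹ : G).2, ?_⟩
          rintro _ ⟨x, hx, rfl⟩
          refine ⟨(b * a⁻¹) * x * (b * a⁻¹)⁻¹, ?_, rfl⟩
          rw [SetLike.mem_coe, ha] at hx
          obtain ⟨l, hl, rfl⟩ := hx
          rw [SetLike.mem_coe, hb]
          refine ⟨l, hl, ?_⟩
          change b * l * b⁻¹ = (b * a⁻¹) * (a * l * a⁻¹) * (b * a⁻¹)⁻¹
          group
        · intro W hW
          refine hEirr W ?_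
          have hle : E ≤ ⨆ i, (e i).1.map G.subtype := by
            rw [hE, Subgroup.map_le_iff_le_comap, hE₀, Subgroup.normalClosure, Subgroup.closure_le]
            intro x hx
            obtain ⟨l, hl, hconj⟩ := Group.mem_conjugatesOfSet_iff.1 hx
            obtain ⟨g, hg⟩ := isConj_iff.1 hconj
            obtain ⟨j, hj⟩ := e.surjective ⟨L₀.map (MulAut.conj g).toMonoidHom, g, rfl⟩
            have h1 : (e j).1 = L₀.map (MulAut.conj g).toMonoidHom := congrArg Subtype.val hj
            have h3 : G.subtype x ∈ (e j).1.map G.subtype := by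
              refine ⟨x, ?_, rfl⟩
              rw [SetLike.mem_coe, h1]
              exact ⟨l, hl, hg⟩
            exact (le_iSup (fun i => (e i).1.map G.subtype) j) h3
          exact fun g hg v hv => hW g (hle hg) v hv
    · -- reducible
      have hex : ∃ W : Submodule (ZMod p) V, (∀ g ∈ E, ∀ v ∈ W, g v ∈ W) ∧ W ≠ ⊥ ∧ W ≠ ⊤ := by
        by_contra hc
        push Not at hc
        apply hEirr
        intro W hW
        by_cases hb : W = ⊥
        · exact Or.inl hb
        · exact Or.inr (hc W hW hb)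
      obtain ⟨W, hW, hWb, hWt⟩ := hex
      obtain ⟨M, hMW, hM⟩ := exists_nirr E hWb hW
      have hMt : M ≠ ⊤ := fun h => hWt (top_le_iff.1 (h ▸ hMW))
      have hst := stab_of_irred (G := G) E hEnorm hM.inv hM.irr
      obtain ⟨h', hh'1, hh'2⟩ := half_rs hh hst hM.ne
      obtain ⟨Y, hYP, ⟨eY⟩⟩ := exists_image hEG hM (hEfaith M hM)
      have hYp : ⁅Y, Y⁆ = Y := by
        rw [← Subgroup.isPerfect_iff]
        have hEperf : Group.IsPerfect E := Subgroup.isPerfect_iff.2 hEp
        exact Group.IsPerfect.ofSurjective (f := eY.toMonoidHom) eY.surjective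
      have hYne : Y ≠ ⊥ := by
        intro hb
        apply hEne
        rw [← Subgroup.card_eq_one, Nat.card_congr eY.toEquiv, hb, Subgroup.card_bot]
      have hPins : ¬ Group.IsSolvable (rs G M) := by
        intro hs
        apply not_solvable_of_perfect hYp hYne
        exact Group.isSolvable_of_isSolvable_injective (f := Subgroup.inclusion hYP) (Subgroup.inclusion_injective hYP)
      have hPp : ¬ p ∣ Nat.card (rs G M) := fun hd => hG (hd.trans (card_rs_dvd M))
      have hMnt : Nontrivial M := Submodule.nontrivial_iff_ne_bot.2 hM.ne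
      have hcardM : Nat.card M < n := by
        rw [← hV, card_eq_pow (p := p), card_eq_pow (p := p) V]
        exact Nat.pow_lt_pow_right (Fact.out : p.Prime).one_lt (Submodule.finrank_lt hMt)
      have h'pos : 1 ≤ h' := by
        rcases Nat.eq_zero_or_pos h' with h0 | h0
        · rw [h0, mul_zero] at hh'1; omega
        · exact h0
      rcases Nat.lt_or_ge 1 h' with h'2 | h'1
      · -- induction
        obtain ⟨S', hS'G, hS'n, ⟨eS⟩, hlst⟩ := ih (Nat.card M) hcardM p hp2 M rfl (rs G M) h' hh'2 h'2 hPp hPins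
        have hPhom := allHomog X.her hp2 hh'2 h'2 hPp hPins
        have hPirr := irr_of_half hPp hh'2 h'2
        have hYS := perf_of_lst hS'G hS'n eS hlst
          (fun M' hM' n hn h => (hPhom S' hS'G hS'n).faithful hPirr hS'n hM' hn h) hYP hYp hYne
        subst hYS
        exact ⟨eY.trans eS⟩
      · -- semiregular
        have h'eq : h' = 1 := by omega
        subst h'eq
        have hfpf : H348.HasFPF Y := by
          refine fpf_of_semireg Y ?_
          intro g hg v hv hgv
          have h1 := hh'2 v hv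
          have h3 : (⟨g, hYP hg⟩ : rs G M) ∈ stabilizer (rs G M) v := hgv
          rw [Subgroup.card_eq_one] at h1
          rw [h1, Subgroup.mem_bot] at h3
          exact congrArg Subtype.val h3
        have htop : ⁅(⊤ : Subgroup Y), ⊤⁆ = ⊤ := (Subgroup.isPerfect_iff.2 hYp).commutator_eq_top
        have htne : (⊤ : Subgroup Y) ≠ ⊥ := by
          intro hb
          apply hYne
          rw [← Subgroup.card_eq_one, ← Subgroup.card_top, hb, Subgroup.card_bot]
        obtain ⟨e⟩ := hfpf.perfect ⊤ htop htne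
        exact ⟨eY.trans (Subgroup.topEquiv.symm.trans e)⟩
  exact ⟨E, hEG, hEnorm, hiso, X.sl5 p V G h hp2 hh h2 hG hirr hhom E hEG hEnorm hiso⟩

end Cfsg.Agent.H960.HT
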