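import Cfsg.Agent.H960.HT.Clif
import Cfsg.Agent.H348.Nonsolvable

/-! `SL(2,5)` as a normal subgroup: perfect subgroups; semiregular linear groups as fixed-point-free groups. -/

set_option autoImplicit false
set_option linter.unusedSectionVars false

namespace Cfsg.Agent.H960.HT

open MulAction Cfsg.Agent.H828.HT Cfsg.Agent.PermutationGroups.AutSL25
open scoped commutatorElement

universe u

/-- a diagonal matrix -/
def D5 : SL25 := ⟨!![2, 0; 0, 3], by decide⟩

theorem sl_perfect : commutator SL25 = ⊤ := by
  have hT : T ∈ commutator SL25 := by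
    have h1 : ⁅D5, T⁆ ∈ commutator SL25 :=
      Subgroup.commutator_mem_commutator (Subgroup.mem_top _) (Subgroup.mem_top _)
    have h2 : ⁅D5, T⁆ * ⁅D5, T⁆ = T := by
      decide +kernel
    rw [← h2]
    exact (commutator SL25).mul_mem h1 h1
  have hS : S ∈ commutator SL25 := by
    have h1 : T⁻¹ * (S * T⁻¹ * S⁻¹) * T⁻¹ = S := by decide +kernel
    rw [← h1]
    have h2 := (commutator SL25).inv_mem hT
    have h3 : (commutator SL25).Normal := inferInstance
    exact (commutator SL25).mul_mem ((commutator SL25).mul_mem h2 (h3.conj_mem _ h2 _)) h2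
  rw [eq_top_iff, ← closure_eq_top, Subgroup.closure_le]
  rintro x (rfl | rfl)
  · exact hS
  · exact hT

theorem not_solvable_of_perfect {G : Type*} [Group G] {X : Subgroup G} (hX : ⁅X, X⁆ = X) (hne : X ≠ ⊥) :
    ¬ Group.IsSolvable X := by
  intro hs
  have h1 := Subgroup.map_subtype_commutator X
  have h2 : commutator X = ⊤ := by
    apply Subgroup.map_injective X.subtype_injective
    rw [h1, hX, ← MonoidHom.range_eq_map, Subgroup.range_subtype]
  have h3 : Nontrivial X := (Subgroup.nontrivial_iff_ne_bot X).2 hne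
  exact (Group.IsSolvable.commutator_lt_top_of_nontrivial X).ne h2

theorem perfect_eq_top {X : Subgroup SL25} (hX : ⁅X, X⁆ = X) (hne : X ≠ ⊥) : X = ⊤ := by
  have h1 := not_solvable_of_perfect hX hne
  have h60 : 60 ≤ Nat.card X := by
    by_contra hlt
    push Not at hlt
    exact h1 (BpAlt.solvable_of_lt _ X rfl hlt)
  have h2 := Subgroup.card_mul_index X
  rw [natCard] at h2
  have h3 : X.index ≤ 2 := by
    by_contra h
    push Not at h
    nlinarith
  have h4 : X.index ≠ 0 := Subgroup.index_ne_zero_of_finite
  rcases (show X.index = 1 ∨ X.index = 2 by omega) with h5 | h5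
  · exact Subgroup.index_eq_one.1 h5
  · exfalso
    have hn : X.Normal := Subgroup.normal_of_index_eq_two h5
    have hle : commutator SL25 ≤ X := by
      have : IsCyclic (SL25 ⧸ X) := by
        have : Nat.card (SL25 ⧸ X) = 2 := h5
        have : Fact (Nat.Prime 2) := ⟨Nat.prime_two⟩
        exact isCyclic_of_prime_card (p := 2) (by assumption)
      have hcomm : ∀ a b : SL25 ⧸ X, a * b = b * a := fun a b => by
        let _ := IsCyclic.commGroup (α := SL25 ⧸ X)
        exact mul_comm a b
      rw [commutator_def, Subgroup.commutator_le]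
      intro a _ b _
      rw [← QuotientGroup.eq_one_iff, commutatorElement_def]
      change (a : SL25 ⧸ X) * (b : SL25 ⧸ X) * (a : SL25 ⧸ X)⁻¹ * (b : SL25 ⧸ X)⁻¹ = 1
      rw [hcomm a b]
      group
    rw [sl_perfect, top_le_iff] at hle
    rw [hle, Subgroup.index_top] at h5
    omega

theorem index_le_two {G : Type*} [Group G] [Finite G] (L : Subgroup G) [L.Normal] (e : L ≃* SL25) :
    (L ⊔ Subgroup.centralizer (L : Set G)).index = 1 ∨ (L ⊔ Subgroup.centralizer (L : Set G)).index = 2 := by
  set C := Subgroup.centralizer (L : Set G) with hC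
  have hCn : C.Normal := inferInstance
  have hLcard : Nat.card L = 120 := by rw [Nat.card_congr e.toEquiv, natCard]
  have hCL : Nat.card (C ⊓ L : Subgroup G) = 2 := by
    have h1 : (C ⊓ L : Subgroup G) = (Subgroup.center L).map L.subtype := by
      ext x
      rw [Subgroup.mem_inf, hC, Subgroup.mem_centralizer_iff]
      constructor
      · rintro ⟨h1, h2⟩
        refine ⟨⟨x, h2⟩, ?_, rfl⟩
        rw [SetLike.mem_coe, Subgroup.mem_center_iff]
        rintro ⟨y, hy⟩
        exact Subtype.ext (h1 y hy)
      · rintro ⟨⟨y, hy⟩, hz, rfl⟩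
        rw [SetLike.mem_coe, Subgroup.mem_center_iff] at hz
        exact ⟨fun w hw => congrArg Subtype.val (hz ⟨w, hw⟩), hy⟩
    rw [h1, Subgroup.card_map_of_injective L.subtype_injective]
    rw [← card_center]
    exact Nat.card_congr (Subgroup.centerCongr e).toEquiv
  have hindex : (L ⊔ C).index * 60 = C.index := by
    have h1 := Subgroup.relIndex_mul_index (H := C) (K := L ⊔ C) le_sup_right
    have h2 : C.relIndex (L ⊔ C) = 60 := by
      rw [Subgroup.relIndex_sup_right]
      have h3 := Subgroup.relIndex_mul_relIndex (⊥ : Subgroup G) (C ⊓ L) L bot_le inf_le_right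
      rw [Subgroup.relIndex_bot_left, Subgroup.relIndex_bot_left, hCL, hLcard,
        Subgroup.inf_relIndex_right] at h3
      omega
    rw [← h1, h2, mul_comm]
  have h1 : C.index ≤ 120 := by
    have h2 := Subgroup.index_ker (MulAut.conjNormal : G →* MulAut L)
    rw [H348.ker_conjNormal L, ← hC] at h2
    rw [h2]
    have : Finite (MulAut L) := inferInstance
    refine (Nat.card_le_card_of_injective _
      (Subgroup.subtype_injective (MulAut.conjNormal : G →* MulAut L).range)).trans ?_
    have h3 : Nat.card (MulAut L) = Nat.card (MulAut SL25) :=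
      Nat.card_congr (MulAut.congr e).toEquiv
    rw [h3]
    exact card_mulAut_le
  have h2 : (L ⊔ C).index ≠ 0 := Subgroup.index_ne_zero_of_finite
  omega

/-- A perfect subgroup of a group with a normal `SL(2,5)` whose centraliser is commutative is inside it. -/
theorem perfect_le {G : Type*} [Group G] [Finite G] (L : Subgroup G) [L.Normal] (e : L ≃* SL25)
    (hC : ∀ a ∈ Subgroup.centralizer (L : Set G), ∀ b ∈ Subgroup.centralizer (L : Set G), a * b = b * a)
    {X : Subgroup G} (hX : ⁅X, X⁆ = X) : X ≤ L := by
  set C := Subgroup.centralizer (L : Set G) with hCdef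
  have hn : (L ⊔ C).Normal := inferInstance
  have hcyc : ∀ a b : G ⧸ (L ⊔ C), a * b = b * a := by
    have : IsCyclic (G ⧸ (L ⊔ C)) := by
      rcases index_le_two L e with h | h
      · have h' : Nat.card (G ⧸ (L ⊔ C)) = 1 := h
        have := (Nat.card_eq_one_iff_unique.1 h').1
        exact isCyclic_of_subsingleton
      · have h' : Nat.card (G ⧸ (L ⊔ C)) = 2 := h
        have : Fact (Nat.Prime 2) := ⟨Nat.prime_two⟩
        exact isCyclic_of_prime_card (p := 2) h'
    intro a b
    let _ := IsCyclic.commGroup (α := G ⧸ (L ⊔ C))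
    exact mul_comm a b
  have h1 : X ≤ L ⊔ C := by
    rw [← hX, Subgroup.commutator_le]
    intro a _ b _
    rw [← QuotientGroup.eq_one_iff, commutatorElement_def]
    change (a : G ⧸ (L ⊔ C)) * (b : G ⧸ (L ⊔ C)) * (a : G ⧸ (L ⊔ C))⁻¹ * (b : G ⧸ (L ⊔ C))⁻¹ = 1
    rw [hcyc a b]
    group
  rw [← hX, Subgroup.commutator_le]
  intro a ha b hb
  obtain ⟨s, hs, c, hc, rfl⟩ := Subgroup.mem_sup_of_normal_left.1 (h1 ha)
  obtain ⟨s', hs', c', hc', rfl⟩ := Subgroup.mem_sup_of_normal_left.1 (h1 hb)
  have e1 : c * s' = s' * c := ((Subgroup.mem_centralizer_iff.1 hc) s' hs').symm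
  have e2 : c * c' = c' * c := hC c hc c' hc'
  have e3 : c' * s = s * c' := ((Subgroup.mem_centralizer_iff.1 hc') s hs).symm
  have : ⁅s * c, s' * c'⁆ = ⁅s, s'⁆ := by
    rw [commutatorElement_def, commutatorElement_def]
    have : s * c * (s' * c') = s * s' * (c * c') := by
      calc s * c * (s' * c') = s * (c * s') * c' := by group
        _ = s * s' * (c * c') := by rw [e1]; group
    have h2 : s' * c' * (s * c) = s' * s * (c * c') := by
      calc s' * c' * (s * c) = s' * (c' * s) * c := by group
        _ = s' * s * (c' * c) := by rw [e3]; group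
        _ = s' * s * (c * c') := by rw [e2]
    calc s * c * (s' * c') * (s * c)⁻¹ * (s' * c')⁻¹ = s * c * (s' * c') * (s' * c' * (s * c))⁻¹ := by group
      _ = s * s' * (c * c') * (s' * s * (c * c'))⁻¹ := by rw [this, h2]
      _ = s * s' * s⁻¹ * s'⁻¹ := by group
  rw [this, commutatorElement_def]
  exact L.mul_mem (L.mul_mem (L.mul_mem hs hs') (L.inv_mem hs)) (L.inv_mem hs')

/-- ... and it is trivial or the whole `SL(2,5)` -/
theorem perfect_eq {G : Type*} [Group G] (L : Subgroup G) (e : L ≃* SL25)
    {X : Subgroup G} (hXL : X ≤ L) (hX : ⁅X, X⁆ = X) (hne : X ≠ ⊥) : X = L := by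
  have h1 : ⁅X.subgroupOf L, X.subgroupOf L⁆ = X.subgroupOf L := by
    apply Subgroup.map_injective L.subtype_injective
    rw [Subgroup.map_commutator, Subgroup.subgroupOf_map_subtype, inf_eq_left.2 hXL, hX]
  have h2 : ⁅(X.subgroupOf L).map e.toMonoidHom, (X.subgroupOf L).map e.toMonoidHom⁆ =
      (X.subgroupOf L).map e.toMonoidHom := by
    rw [← Subgroup.map_commutator, h1]
  have h3 : (X.subgroupOf L).map e.toMonoidHom ≠ ⊥ := by
    rw [Ne, Subgroup.map_eq_bot_iff_of_injective _ e.injective, Subgroup.subgroupOf_eq_bot]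
    intro hd
    apply hne
    rw [eq_bot_iff]
    intro x hx
    exact (Subgroup.disjoint_def.1 hd) hx (hXL hx)
  have h4 := perfect_eq_top h2 h3
  refine le_antisymm hXL ?_
  intro x hx
  have h5 : e ⟨x, hx⟩ ∈ (X.subgroupOf L).map e.toMonoidHom := by rw [h4]; trivial
  obtain ⟨y, hy, hye⟩ := h5
  have h6 : y = ⟨x, hx⟩ := e.injective hye
  rw [h6] at hy
  exact hy

/-- semiregular linear groups act fixed-point-freely -/
theorem fpf_of_semireg {p : ℕ} [Fact p.Prime] {M : Type u} [AddCommGroup M] [Module (ZMod p) M] [Finite M]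
    [Nontrivial M] (H : Subgroup (M ≃ₗ[ZMod p] M)) (hsr : ∀ g ∈ H, ∀ v : M, v ≠ 0 → g v = v → g = 1) :
    H348.HasFPF H := by
  have e : M ≃ₗ[ZMod p] (Fin (Module.finrank (ZMod p) M) → ZMod p) := (Module.finBasis (ZMod p) M).equivFun
  have hnt : Nontrivial (Fin (Module.finrank (ZMod p) M) → ZMod p) := e.symm.toEquiv.nontrivial
  refine ⟨Multiplicative (Fin (Module.finrank (ZMod p) M) → ZMod p), inferInstance, inferInstance, inferInstance, ?_⟩
  let φ : H →* MulAut (Multiplicative (Fin (Module.finrank (ZMod p) M) → ZMod p)) :=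
    { toFun := fun g =>
        { toFun := fun x => Multiplicative.ofAdd (e (g.1 (e.symm (Multiplicative.toAdd x))))
          invFun := fun x => Multiplicative.ofAdd (e (g.1⁻¹ (e.symm (Multiplicative.toAdd x))))
          left_inv := by
            intro x
            change Multiplicative.ofAdd (e (g.1⁻¹ (e.symm (e (g.1 (e.symm (Multiplicative.toAdd x))))))) = x
            rw [e.symm_apply_apply]
            change Multiplicative.ofAdd (e ((g.1⁻¹ * g.1) (e.symm (Multiplicative.toAdd x)))) = x
            rw [inv_mul_cancel]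
            change Multiplicative.ofAdd (e (e.symm (Multiplicative.toAdd x))) = x
            rw [e.apply_symm_apply]; rfl
          right_inv := by
            intro x
            change Multiplicative.ofAdd (e (g.1 (e.symm (e (g.1⁻¹ (e.symm (Multiplicative.toAdd x))))))) = x
            rw [e.symm_apply_apply]
            change Multiplicative.ofAdd (e ((g.1 * g.1⁻¹) (e.symm (Multiplicative.toAdd x)))) = x
            rw [mul_inv_cancel]
            change Multiplicative.ofAdd (e (e.symm (Multiplicative.toAdd x))) = x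
            rw [e.apply_symm_apply]; rfl
          map_mul' := by
            intro x y
            change Multiplicative.ofAdd (e (g.1 (e.symm (Multiplicative.toAdd x + Multiplicative.toAdd y)))) = _
            rw [map_add, map_add, map_add]; rfl }
      map_one' := by
        apply MulEquiv.ext
        intro x
        change Multiplicative.ofAdd (e (e.symm (Multiplicative.toAdd x))) = x
        rw [e.apply_symm_apply]; rfl
      map_mul' := by
        intro a b
        apply MulEquiv.ext
        intro x
        change Multiplicative.ofAdd (e (a.1 (b.1 (e.symm (Multiplicative.toAdd x))))) =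
          Multiplicative.ofAdd (e (a.1 (e.symm (e (b.1 (e.symm (Multiplicative.toAdd x)))))))
        rw [e.symm_apply_apply] }
  refine ⟨φ, ?_⟩
  intro a ha v hv
  have h1 : e (a.1 (e.symm (Multiplicative.toAdd v))) = Multiplicative.toAdd v := hv
  have h2 : a.1 (e.symm (Multiplicative.toAdd v)) = e.symm (Multiplicative.toAdd v) := by
    have := congrArg e.symm h1
    rwa [e.symm_apply_apply] at this
  by_contra hv1
  apply ha
  apply Subtype.ext
  refine hsr a.1 a.2 _ ?_ h2
  intro h0
  apply hv1
  have h3 : Multiplicative.toAdd v = 0 := by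
    rw [← e.apply_symm_apply (Multiplicative.toAdd v), h0, map_zero]
  exact h3

end Cfsg.Agent.H960.HT
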