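import Mathlib
import Cfsg.Agent.OddCyclic.EmpFFAlt

/-! Elements inverted by an automorphism: a group with a normal section `A₅` has at most `4/15` of them.
More than `3/4` of them makes the group commutative. -/

namespace Cfsg.Agent.H960.HT

open Equiv

set_option maxRecDepth 100000 in
theorem perm_five_count : ∀ σ : Perm (Fin 5),
    (Finset.univ.filter (fun a : Perm (Fin 5) => a.sign = 1 ∧ σ * a = a⁻¹ * σ)).card ≤ 16 := by
  decide +kernel

theorem alt_five_count (β : MulAut (alternatingGroup (Fin 5))) :
    Nat.card {a : alternatingGroup (Fin 5) // β a = a⁻¹} ≤ 16 := by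
  classical
  obtain ⟨σ, hσ⟩ := OddCyclic.EmpFFAlt.exists_conj β
  refine le_trans ?_ (perm_five_count σ)
  rw [← Fintype.card_coe, ← Nat.card_eq_fintype_card]
  refine Nat.card_le_card_of_injective (fun a => ⟨a.1.1, ?_⟩) ?_
  · rw [Finset.mem_filter]
    refine ⟨Finset.mem_univ _, Perm.mem_alternatingGroup.1 a.1.2, ?_⟩
    have h1 := hσ a.1
    rw [a.2] at h1
    have h2 : (a.1.1 : Perm (Fin 5))⁻¹ = σ * a.1.1 * σ⁻¹ := h1
    rw [h2]
    group
  · intro a b h
    have h' := congrArg Subtype.val h
    exact Subtype.ext (Subtype.ext h')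

/-- An automorphism inverting more than three quarters of the elements makes the group commutative. -/
theorem comm_of_three_quarters {X : Type*} [Group X] [Finite X] (α : X ≃* X)
    (h : 3 * Nat.card X < 4 * Nat.card {x : X // α x = x⁻¹}) : ∀ x y : X, x * y = y * x := by
  classical
  have := Fintype.ofFinite X
  set S : Finset X := Finset.univ.filter (fun x => α x = x⁻¹) with hS
  have hc : Nat.card {x : X // α x = x⁻¹} = S.card := by
    rw [Nat.card_eq_fintype_card, Fintype.card_subtype]
  rw [hc, Nat.card_eq_fintype_card] at h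
  have key : ∀ s ∈ S, s ∈ Subgroup.center X := by
    intro s hs
    -- S ∩ s⁻¹ S ≤ C(s)
    have h1 : (S ∩ S.image (fun x => s⁻¹ * x)) ⊆
        Finset.univ.filter (fun x => x ∈ Subgroup.centralizer ({s} : Set X)) := by
      intro t ht
      simp only [Finset.mem_inter, Finset.mem_image, hS, Finset.mem_filter, Finset.mem_univ, true_and] at ht hs ⊢
      obtain ⟨ht, y, hy, rfl⟩ := ht
      rw [Subgroup.mem_centralizer_singleton_iff]
      have e1 : α (s * (s⁻¹ * y)) = (s * (s⁻¹ * y))⁻¹ := by simpa using hy
      rw [map_mul, ht, hs] at e1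
      have e2 := congrArg (·⁻¹) e1
      simpa [mul_assoc] using e2
    have h2 := Finset.card_le_card h1
    have h3 : (S.image (fun x => s⁻¹ * x)).card = S.card :=
      Finset.card_image_of_injective _ (mul_right_injective _)
    have h4 := Finset.card_union_add_card_inter S (S.image (fun x => s⁻¹ * x))
    have h5 : (S ∪ S.image (fun x => s⁻¹ * x)).card ≤ Fintype.card X := Finset.card_le_univ _
    have h6 : Fintype.card X < 2 * (Finset.univ.filter (fun x => x ∈ Subgroup.centralizer ({s} : Set X))).card := by
      omega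
    have h7 : Nat.card (Subgroup.centralizer ({s} : Set X)) =
        (Finset.univ.filter (fun x => x ∈ Subgroup.centralizer ({s} : Set X))).card := by
      rw [Nat.card_eq_fintype_card, ← Fintype.card_subtype]
    rw [← h7, ← Nat.card_eq_fintype_card] at h6
    have h8 : Subgroup.centralizer ({s} : Set X) = ⊤ := by
      by_contra hne
      have h9 := Subgroup.card_mul_index (Subgroup.centralizer ({s} : Set X))
      have h10 : (Subgroup.centralizer ({s} : Set X)).index ≠ 1 := fun h => hne (Subgroup.index_eq_one.1 h)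
      have h11 : (Subgroup.centralizer ({s} : Set X)).index ≠ 0 := Subgroup.index_ne_zero_of_finite
      have h12 : 2 ≤ (Subgroup.centralizer ({s} : Set X)).index := by omega
      nlinarith
    rw [Subgroup.mem_center_iff]
    intro g
    have : g ∈ Subgroup.centralizer ({s} : Set X) := by rw [h8]; trivial
    rw [Subgroup.mem_centralizer_singleton_iff] at this
    exact this
  have hcen : Subgroup.center X = ⊤ := by
    by_contra hne
    have h9 := Subgroup.card_mul_index (Subgroup.center X)
    have h10 : (Subgroup.center X).index ≠ 1 := fun h => hne (Subgroup.index_eq_one.1 h)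
    have h11 : (Subgroup.center X).index ≠ 0 := Subgroup.index_ne_zero_of_finite
    have h12 : 2 ≤ (Subgroup.center X).index := by omega
    have h13 : S.card ≤ Nat.card (Subgroup.center X) := by
      rw [Nat.card_eq_fintype_card, Fintype.card_subtype]
      exact Finset.card_le_card (fun s hs => by simpa using key s hs)
    rw [Nat.card_eq_fintype_card (α := X)] at h9
    nlinarith
  intro x y
  have : y ∈ Subgroup.center X := by rw [hcen]; trivial
  exact (Subgroup.mem_center_iff.1 this x)

/-- the number of elements of a group with quotient `A₅` (soluble kernel) inverted by an automorphism -/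
theorem inv_quot {L : Type*} [Group L] [Finite L] (π : L →* alternatingGroup (Fin 5))
    (hπ : Function.Surjective π) (hker : Group.IsSolvable π.ker) (β : L ≃* L) :
    15 * Nat.card {a : L // β a = a⁻¹} ≤ 4 * Nat.card L := by
  classical
  -- the kernel is preserved
  have hsub : ∀ γ : L ≃* L, ∀ x ∈ π.ker, γ x ∈ π.ker := by
    intro γ x hx
    set N : Subgroup L := π.ker.map γ.toMonoidHom with hN
    have hNn : N.Normal := Subgroup.Normal.map (by infer_instance) _ γ.surjective
    have hN' : (N.map π).Normal := Subgroup.Normal.map hNn _ hπ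
    have hs : Group.IsSolvable (N.map π) := by
      have h1 : Group.IsSolvable N :=
        Group.isSolvable_of_surjective (f := (γ.toMonoidHom.subgroupMap π.ker)) (MonoidHom.subgroupMap_surjective _ _)
      exact Group.isSolvable_of_surjective (f := (π.subgroupMap N)) (MonoidHom.subgroupMap_surjective _ _)
    have h60 : Nat.card (alternatingGroup (Fin 5)) = 60 := by
      rw [nat_card_alternatingGroup]; simp; decide
    have : IsSimpleGroup (alternatingGroup (Fin 5)) := alternatingGroup.isSimpleGroup (by simp)
    rcases hN'.eq_bot_or_eq_top with h | h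
    · have h1 : π (γ x) ∈ N.map π := Subgroup.mem_map_of_mem _ (Subgroup.mem_map_of_mem _ hx)
      rw [h, Subgroup.mem_bot] at h1
      exact h1
    · exfalso
      rw [h] at hs
      have h1 : Group.IsSolvable (alternatingGroup (Fin 5)) :=
        Group.isSolvable_of_surjective (f := (Subgroup.topEquiv (G := alternatingGroup (Fin 5))).toMonoidHom)
          (Subgroup.topEquiv (G := alternatingGroup (Fin 5))).surjective
      have h2 := IsSimpleGroup.comm_iff_isSolvable.2 h1
      revert h2
      decide +kernel
  have hker' : π.ker.map β.toMonoidHom = π.ker := by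
    apply le_antisymm
    · rintro _ ⟨x, hx, rfl⟩
      exact hsub β x hx
    · intro x hx
      exact ⟨β.symm x, hsub β.symm x hx, β.apply_symm_apply x⟩
  let e := QuotientGroup.quotientKerEquivOfSurjective π hπ
  let β' : (L ⧸ π.ker) ≃* (L ⧸ π.ker) := QuotientGroup.congr π.ker π.ker β hker'
  let βb : MulAut (alternatingGroup (Fin 5)) := (e.symm.trans β').trans e
  have hβb : ∀ x : L, βb (π x) = π (β x) := by
    intro x
    change e (β' (e.symm (π x))) = _
    have : e.symm (π x) = (x : L ⧸ π.ker) := by
      rw [MulEquiv.symm_apply_eq]; rfl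
    rw [this]
    rfl
  have h16 := alt_five_count βb
  -- fibres
  have hc1 : Nat.card {a : L // β a = a⁻¹} ≤ Nat.card {x : L // βb (π x) = (π x)⁻¹} := by
    refine Nat.card_le_card_of_injective (fun a => ⟨a.1, ?_⟩) ?_
    · rw [hβb, a.2, map_inv]
    · intro a b h
      have h' := congrArg Subtype.val h
      exact Subtype.ext h'
  have hsec : ∃ s : alternatingGroup (Fin 5) → L, ∀ a, π (s a) = a := ⟨fun a => (hπ a).choose, fun a => (hπ a).choose_spec⟩
  obtain ⟨s, hs⟩ := hsec
  have hc2 : Nat.card {x : L // βb (π x) = (π x)⁻¹} =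
      Nat.card {a : alternatingGroup (Fin 5) // βb a = a⁻¹} * Nat.card π.ker := by
    rw [← Nat.card_prod]
    refine Nat.card_congr ⟨fun x => (⟨π x.1, x.2⟩, ⟨(s (π x.1))⁻¹ * x.1, ?_⟩),
      fun y => ⟨s y.1.1 * y.2.1, ?_⟩, ?_, ?_⟩
    · rw [MonoidHom.mem_ker, map_mul, map_inv, hs, inv_mul_cancel]
    · have h1 : π (s y.1.1 * y.2.1) = y.1.1 := by
        rw [map_mul, hs, MonoidHom.mem_ker.1 y.2.2, mul_one]
      rw [h1]; exact y.1.2
    · intro x
      ext
      simp
    · rintro ⟨⟨a, ha⟩, ⟨k, hk⟩⟩
      have h1 : π (s a * k) = a := by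
        rw [map_mul, hs, MonoidHom.mem_ker.1 hk, mul_one]
      simp only [Prod.mk.injEq, Subtype.mk.injEq]
      refine ⟨h1, ?_⟩
      rw [h1, inv_mul_cancel_left]
  have hc3 : Nat.card L = 60 * Nat.card π.ker := by
    have h60 : Nat.card (alternatingGroup (Fin 5)) = 60 := by
      rw [nat_card_alternatingGroup]; simp; decide
    have := Subgroup.card_eq_card_quotient_mul_card_subgroup π.ker
    rw [this, Nat.card_congr e.toEquiv, h60]
  rw [hc2] at hc1
  rw [hc3]
  nlinarith

/-- **The `4/15` bound.** -/
theorem inv_bound {X : Type*} [Group X] [Finite X] (α : X ≃* X) (L : Subgroup X) [L.Normal]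
    (hL : ∀ x ∈ L, α x ∈ L) (π : L →* alternatingGroup (Fin 5)) (hπ : Function.Surjective π)
    (hker : Group.IsSolvable π.ker) :
    15 * Nat.card {x : X // α x = x⁻¹} ≤ 4 * Nat.card X := by
  classical
  have := Fintype.ofFinite X
  have := Fintype.ofFinite (X ⧸ L)
  have hfib : ∀ c : X ⧸ L, 15 * Nat.card {x : {x : X // α x = x⁻¹} // (x.1 : X ⧸ L) = c} ≤ 4 * Nat.card L := by
    intro c
    by_cases hne : Nonempty {x : {x : X // α x = x⁻¹} // (x.1 : X ⧸ L) = c}
    · obtain ⟨⟨⟨x₀, hx₀⟩, hc⟩⟩ := hne
      have hmem : ∀ l : L, x₀⁻¹ * α l.1 * x₀ ∈ L := by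
        intro l
        have := (inferInstance : L.Normal).conj_mem (α l.1) (hL _ l.2) x₀⁻¹
        simpa using this
      let f : L →* L :=
        { toFun := fun l => ⟨x₀⁻¹ * α l.1 * x₀, hmem l⟩
          map_one' := by ext; simp
          map_mul' := by intro a b; ext; simp [mul_assoc] }
      have hf : Function.Injective f := by
        intro a b h
        have h1 : x₀⁻¹ * α a.1 * x₀ = x₀⁻¹ * α b.1 * x₀ := congrArg Subtype.val h
        have h2 := mul_left_cancel (mul_right_cancel h1)
        exact Subtype.ext (α.injective h2)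
      let β : L ≃* L := MulEquiv.ofBijective f (Finite.injective_iff_bijective.1 hf)
      refine le_trans (Nat.mul_le_mul_left _ ?_) (inv_quot π hπ hker β)
      refine Nat.card_le_card_of_injective (fun y => ⟨⟨x₀⁻¹ * y.1.1, ?_⟩, ?_⟩) ?_
      · rw [← QuotientGroup.eq, hc, y.2]
      · apply Subtype.ext
        change x₀⁻¹ * α (x₀⁻¹ * y.1.1) * x₀ = (x₀⁻¹ * y.1.1)⁻¹
        rw [map_mul, map_inv, hx₀, y.1.2]
        group
      · intro a b h
        have h1 : x₀⁻¹ * a.1.1 = x₀⁻¹ * b.1.1 := congrArg (fun z => z.1.1) h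
        exact Subtype.ext (Subtype.ext (mul_left_cancel h1))
    · rw [not_nonempty_iff] at hne
      rw [Nat.card_of_isEmpty]
      omega
  have h1 : Nat.card {x : X // α x = x⁻¹} =
      ∑ c : X ⧸ L, Nat.card {x : {x : X // α x = x⁻¹} // (x.1 : X ⧸ L) = c} := by
    rw [← Nat.card_sigma]
    exact Nat.card_congr (Equiv.sigmaFiberEquiv _).symm
  rw [h1, Finset.mul_sum]
  refine le_trans (Finset.sum_le_sum (fun c _ => hfib c)) ?_
  rw [Finset.sum_const, Finset.card_univ, smul_eq_mul, ← Nat.card_eq_fintype_card,
    Subgroup.card_eq_card_quotient_mul_card_subgroup L]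
  nlinarith

end Cfsg.Agent.H960.HT
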