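import Cfsg.Agent.H960.HT.Schur

/-! In the exceptional cases every nontrivial perfect subgroup is the normal `SL(2,5)`. -/

set_option autoImplicit false
set_option linter.unusedSectionVars false
set_option linter.unusedVariables false

namespace Cfsg.Agent.H960.HT

open MulAction Cfsg.Agent.H828.HT Cfsg.Agent.PermutationGroups.AutSL25
open scoped commutatorElement

universe u

/-- the list of exceptional parameters -/
def Lst (p : ℕ) (V : Type u) [AddCommGroup V] [Module (ZMod p) V] : Prop :=
  (Module.finrank (ZMod p) V = 2 ∧ (p = 11 ∨ p = 19 ∨ p = 29)) ∨ (Module.finrank (ZMod p) V = 4 ∧ p = 13)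

variable {p : ℕ} [Fact p.Prime] {V : Type u} [AddCommGroup V] [Module (ZMod p) V] [Finite V]

theorem sl_noncomm : ∃ a b : SL25, a * b ≠ b * a := ⟨S, T, by decide +kernel⟩

theorem pow_mod_five {c d : ℕ} (hc : c ≤ d) (hd : d ≤ 3) (h : 13 ^ d ≡ 13 ^ c [MOD 5]) : c = d := by
  have : c ≤ 3 := hc.trans hd
  interval_cases d <;> interval_cases c <;> first | rfl | (exfalso; revert h; decide)

/-- an element of order 5 is trivial on a small invariant subspace in characteristic 13 -/
theorem five_trivial {V : Type u} [AddCommGroup V] [Fact (Nat.Prime 13)] [Module (ZMod 13) V] [Finite V]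
    {x : V ≃ₗ[ZMod 13] V} (hx : x ^ 5 = 1) {M : Submodule (ZMod 13) V} (hM : ∀ v ∈ M, x v ∈ M)
    (hd : Module.finrank (ZMod 13) M ≤ 3) : ∀ v ∈ M, x v = v := by
  classical
  let f : M →ₗ[ZMod 13] M := (x : V →ₗ[ZMod 13] V).restrict hM
  have hf : (f : Module.End (ZMod 13) M) ^ 5 = 1 := by
    apply LinearMap.ext
    intro v
    apply Subtype.ext
    have : ∀ n : ℕ, (((f : Module.End (ZMod 13) M) ^ n) v : V) = (x ^ n) v.1 := by
      intro n
      induction n with
      | zero => rfl
      | succ n ih =>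
        rw [pow_succ', pow_succ']
        change x (((f : Module.End (ZMod 13) M) ^ n) v).1 = x ((x ^ n) v.1)
        rw [ih]
    rw [this 5, hx]
    rfl
  let F : Function.End M := fun v => f v
  have hF : F ^ 5 ^ 1 = 1 := by
    have : ∀ n : ℕ, ∀ v, (F ^ n) v = ((f : Module.End (ZMod 13) M) ^ n) v := by
      intro n
      induction n with
      | zero => intro v; rfl
      | succ n ih =>
        intro v
        rw [pow_succ', pow_succ']
        change F ((F ^ n) v) = f (((f : Module.End (ZMod 13) M) ^ n) v)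
        rw [ih]
    funext v
    rw [pow_one, this, hf]
    rfl
  have : Fact (Nat.Prime 5) := ⟨by norm_num⟩
  have := Fintype.ofFinite M
  have h1 := Equiv.Perm.card_fixedPoints_modEq hF
  have h2 : Fintype.card F.fixedPoints = Nat.card (LinearMap.ker (f - LinearMap.id)) := by
    rw [← Nat.card_eq_fintype_card]
    refine Nat.card_congr (Equiv.subtypeEquivRight ?_)
    intro v
    rw [LinearMap.mem_ker, LinearMap.sub_apply, sub_eq_zero]
    rfl
  rw [h2, ← Nat.card_eq_fintype_card, card_eq_pow (p := 13), card_eq_pow (p := 13)] at h1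
  have h3 := pow_mod_five (Submodule.finrank_le _) hd h1
  have h4 := Submodule.eq_top_of_finrank_eq h3
  intro v hv
  have h5 : (⟨v, hv⟩ : M) ∈ LinearMap.ker (f - LinearMap.id) := by rw [h4]; trivial
  rw [LinearMap.mem_ker, LinearMap.sub_apply, sub_eq_zero] at h5
  exact congrArg Subtype.val h5

/-- irreducibility of the normal `SL(2,5)` in the exceptional cases -/
theorem irr_of_lst {S' : Subgroup (V ≃ₗ[ZMod p] V)} (e : S' ≃* SL25) (hl : Lst p V)
    (hfaith : ∀ M : Submodule (ZMod p) V, NIrr S' M → ∀ n ∈ S', (∀ v ∈ M, n v = v) → n = 1) : Irr S' := by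
  classical
  intro W hW
  by_contra hcon
  push Not at hcon
  obtain ⟨M, hMW, hM⟩ := exists_nirr S' hcon.1 hW
  have hMt : M ≠ ⊤ := fun h => hcon.2 (top_le_iff.1 (h ▸ hMW))
  have hlt : Module.finrank (ZMod p) M < Module.finrank (ZMod p) V := Submodule.finrank_lt hMt
  rcases hl with ⟨h2, hp⟩ | ⟨h4, hp⟩
  · -- one-dimensional
    have h1 : Module.finrank (ZMod p) M = 1 := by
      have : Nontrivial M := Submodule.nontrivial_iff_ne_bot.2 hM.ne
      have : 0 < Module.finrank (ZMod p) M := Module.finrank_pos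
      omega
    have hscal : ∀ g ∈ S', ∃ c : ZMod p, ∀ v ∈ M, g v = c • v := by
      intro g hg
      obtain ⟨x₀, hx₀, hgen⟩ := finrank_eq_one_iff'.1 h1
      obtain ⟨t, ht⟩ := hgen ⟨_, hM.inv g hg x₀.1 x₀.2⟩
      refine ⟨t, fun y hy => ?_⟩
      obtain ⟨s, hs⟩ := hgen ⟨y, hy⟩
      have e1 : y = s • x₀.1 := (congrArg Subtype.val hs).symm
      have e2 : g x₀.1 = t • x₀.1 := (congrArg Subtype.val ht).symm
      rw [e1, map_smul, e2, smul_comm]
    obtain ⟨a, b, hab⟩ := sl_noncomm
    apply hab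
    have ha := (e.symm a).2
    have hb := (e.symm b).2
    obtain ⟨c, hc⟩ := hscal _ ha
    obtain ⟨d, hd⟩ := hscal _ hb
    have h3 : ((e.symm b).1 * (e.symm a).1)⁻¹ * ((e.symm a).1 * (e.symm b).1) = 1 := by
      refine hfaith M hM _ (S'.mul_mem (S'.inv_mem (S'.mul_mem hb ha)) (S'.mul_mem ha hb)) ?_
      intro v hv
      have e1 : ((e.symm a).1 * (e.symm b).1) v = ((e.symm b).1 * (e.symm a).1) v := by
        change (e.symm a).1 ((e.symm b).1 v) = (e.symm b).1 ((e.symm a).1 v)
        rw [hd v hv, hc v hv, map_smul, map_smul, hd v hv, hc v hv, smul_comm]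
      change ((e.symm b).1 * (e.symm a).1)⁻¹ (((e.symm a).1 * (e.symm b).1) v) = v
      rw [e1]
      change (((e.symm b).1 * (e.symm a).1)⁻¹ * ((e.symm b).1 * (e.symm a).1)) v = v
      rw [inv_mul_cancel]; rfl
    rw [inv_mul_eq_one] at h3
    have h4 : e.symm b * e.symm a = e.symm a * e.symm b := Subtype.ext h3
    rw [← map_mul, ← map_mul] at h4
    exact (e.symm.injective h4).symm
  · subst hp
    have hx5 : ((e.symm T).1) ^ 5 = 1 := by
      have : (e.symm T) ^ 5 = 1 := by
        rw [← map_pow]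
        have : T ^ 5 = 1 := by decide +kernel
        rw [this, map_one]
      exact congrArg Subtype.val this
    have h5 := five_trivial hx5 (M := M) (fun v hv => hM.inv _ (e.symm T).2 v hv) (by omega)
    have h6 := hfaith M hM _ (e.symm T).2 h5
    have h7 : e.symm T = 1 := Subtype.ext h6
    rw [map_eq_one_iff _ e.symm.injective] at h7
    exact T_ne h7

/-- **perfect subgroups in the exceptional cases** -/
theorem perf_of_lst {G S' : Subgroup (V ≃ₗ[ZMod p] V)} (hS : S' ≤ G) (hnorm : ∀ g ∈ G, ∀ s ∈ S', g * s * g⁻¹ ∈ S')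
    (e : S' ≃* SL25) (hl : Lst p V)
    (hfaith : ∀ M : Submodule (ZMod p) V, NIrr S' M → ∀ n ∈ S', (∀ v ∈ M, n v = v) → n = 1)
    {X : Subgroup (V ≃ₗ[ZMod p] V)} (hXG : X ≤ G) (hX : ⁅X, X⁆ = X) (hne : X ≠ ⊥) : X = S' := by
  classical
  have hirr := irr_of_lst e hl hfaith
  have hnt : Nontrivial V := by
    have : 0 < Module.finrank (ZMod p) V := by rcases hl with ⟨h, _⟩ | ⟨h, _⟩ <;> omega
    exact Module.nontrivial_of_finrank_pos this
  -- inside `G`
  have hn : (S'.subgroupOf G).Normal := by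
    constructor
    intro s hs g
    exact hnorm g.1 g.2 s.1 hs
  let e' : S'.subgroupOf G ≃* SL25 := (Subgroup.subgroupOfEquivOfLe hS).trans e
  have hcent : ∀ a ∈ Subgroup.centralizer (S'.subgroupOf G : Set G), ∀ b ∈ Subgroup.centralizer (S'.subgroupOf G : Set G),
      a * b = b * a := by
    intro a ha b hb
    apply Subtype.ext
    refine cent_comm hirr (a := a.1) (b := b.1) ?_ ?_
    · intro l hl
      exact (congrArg Subtype.val ((Subgroup.mem_centralizer_iff.1 ha) ⟨l, hS hl⟩ hl)).symm
    · intro l hl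
      exact (congrArg Subtype.val ((Subgroup.mem_centralizer_iff.1 hb) ⟨l, hS hl⟩ hl)).symm
  have hXG' : ⁅X.subgroupOf G, X.subgroupOf G⁆ = X.subgroupOf G := by
    apply Subgroup.map_injective G.subtype_injective
    rw [Subgroup.map_commutator, Subgroup.subgroupOf_map_subtype, inf_eq_left.2 hXG, hX]
  have h1 := perfect_le (S'.subgroupOf G) e' hcent hXG'
  have h2 : X ≤ S' := by
    intro x hx
    exact h1 (show (⟨x, hXG hx⟩ : G) ∈ X.subgroupOf G from hx)
  exact perfect_eq S' e h2 hX hne

end Cfsg.Agent.H960.HT
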