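import Cfsg.Agent.H960.HT.Inv
import Cfsg.Agent.BpAlt.Row
import Cfsg.Agent.S0253

/-! An insoluble finite group with a soluble normal subgroup whose quotient has a normal `SL(2,5)` of small
index: an automorphism inverts at most `4/15` of the elements. -/

set_option autoImplicit false

namespace Cfsg.Agent.H960.HT

universe u

theorem exists_sl_to_alt : ∃ f : Matrix.SpecialLinearGroup (Fin 2) (ZMod 5) →* alternatingGroup (Fin 5),
    Function.Surjective f ∧ Group.IsSolvable f.ker := by
  obtain ⟨e⟩ := S0253.psl_zmod5
  let q : Matrix.SpecialLinearGroup (Fin 2) (ZMod 5) →* Matrix.ProjectiveSpecialLinearGroup (Fin 2) (ZMod 5) :=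
    QuotientGroup.mk' _
  refine ⟨e.toMonoidHom.comp q, e.surjective.comp (QuotientGroup.mk'_surjective _), ?_⟩
  have h1 : (e.toMonoidHom.comp q).ker = Subgroup.center _ := by
    ext x
    rw [MonoidHom.mem_ker]
    change e (q x) = 1 ↔ _
    rw [map_eq_one_iff e e.injective]
    exact QuotientGroup.eq_one_iff x
  rw [h1]
  exact Group.isSolvable_of_comm (fun a b => Subtype.ext ((Subgroup.mem_center_iff.1 a.2 b.1).symm))

theorem resid_bound {A H : Type u} [Group A] [Finite A] [Group H] (φ : A →* H)
    (hφ : Function.Surjective φ) (hker : Group.IsSolvable φ.ker) (hA : ¬ Group.IsSolvable A)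
    (N : Subgroup H) [N.Normal] (hN : Nonempty (N ≃* Matrix.SpecialLinearGroup (Fin 2) (ZMod 5)))
    (hcard : N.index < 60) (α : A ≃* A) :
    15 * Nat.card {x : A // α x = x⁻¹} ≤ 4 * Nat.card A := by
  have : Finite H := Finite.of_surjective φ hφ
  have hq : Group.IsSolvable (H ⧸ N) := BpAlt.solvable_of_lt _ (H ⧸ N) rfl hcard
  obtain ⟨n, hn⟩ := hq.solvable
  have hDN : derivedSeries H n ≤ N := by
    have h1 : (derivedSeries H n).map (QuotientGroup.mk' N) = ⊥ := by
      rw [← hn]
      exact map_derivedSeries_eq (QuotientGroup.mk'_surjective N) n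
    intro x hx
    have : QuotientGroup.mk' N x ∈ (derivedSeries H n).map (QuotientGroup.mk' N) := Subgroup.mem_map_of_mem _ hx
    rw [h1, Subgroup.mem_bot] at this
    exact (QuotientGroup.eq_one_iff x).1 this
  have hmap : (derivedSeries A n).map φ = derivedSeries H n := map_derivedSeries_eq hφ n
  obtain ⟨f, hf, hfk⟩ := exists_sl_to_alt
  obtain ⟨e⟩ := hN
  let φL : derivedSeries A n →* N :=
    { toFun := fun x => ⟨φ x.1, hDN (by rw [← hmap]; exact Subgroup.mem_map_of_mem _ x.2)⟩
      map_one' := by ext; simp
      map_mul' := by intro a b; ext; simp }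
  let π : derivedSeries A n →* alternatingGroup (Fin 5) := (f.comp e.toMonoidHom).comp φL
  -- the kernel is soluble
  have hk1 : Group.IsSolvable (f.comp e.toMonoidHom).ker := by
    have : Group.IsSolvable f.ker := hfk
    let g : (f.comp e.toMonoidHom).ker →* f.ker :=
      { toFun := fun x => ⟨e x.1, x.2⟩
        map_one' := Subtype.ext (map_one e)
        map_mul' := fun a b => Subtype.ext (map_mul e _ _) }
    refine Group.isSolvable_of_isSolvable_injective (f := g) ?_
    intro a b h
    have h1 : e a.1 = e b.1 := congrArg Subtype.val h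
    exact Subtype.ext (e.injective h1)
  have hk2 : Group.IsSolvable φL.ker := by
    let g : φL.ker →* φ.ker :=
      { toFun := fun x => ⟨x.1.1, congrArg Subtype.val x.2⟩
        map_one' := by ext; simp
        map_mul' := by intro a b; ext; simp }
    refine Group.isSolvable_of_isSolvable_injective (f := g) ?_
    intro a b h
    have h1 : a.1.1 = b.1.1 := congrArg (fun z => z.1) h
    exact Subtype.ext (Subtype.ext h1)
  have hπk : Group.IsSolvable π.ker := by
    let g : π.ker →* (f.comp e.toMonoidHom).ker :=
      { toFun := fun x => ⟨φL x.1, x.2⟩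
        map_one' := Subtype.ext (map_one φL)
        map_mul' := fun a b => Subtype.ext (map_mul φL _ _) }
    let i : φL.ker →* π.ker :=
      { toFun := fun x => ⟨x.1, by
          rw [MonoidHom.mem_ker]
          change (f.comp e.toMonoidHom) (φL x.1) = 1
          rw [MonoidHom.mem_ker.1 x.2, map_one]⟩
        map_one' := by ext; simp
        map_mul' := by intro a b; ext; simp }
    refine Group.isSolvable_of_ker_le_range i g ?_
    intro x hx
    refine ⟨⟨x.1, ?_⟩, rfl⟩
    exact congrArg Subtype.val (MonoidHom.mem_ker.1 hx)
  -- surjectivity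
  have hπ : Function.Surjective π := by
    have : IsSimpleGroup (alternatingGroup (Fin 5)) := alternatingGroup.isSimpleGroup (by simp)
    rw [← MonoidHom.range_eq_top]
    -- the image of `φL` is normal in `N`
    have hn1 : φL.range.Normal := by
      constructor
      rintro _ ⟨x, rfl⟩ y
      have h1 : (derivedSeries H n).Normal := by infer_instance
      have h2 : y.1 * φ x.1 * y.1⁻¹ ∈ derivedSeries H n :=
        h1.conj_mem _ (by rw [← hmap]; exact Subgroup.mem_map_of_mem _ x.2) _
      rw [← hmap] at h2
      obtain ⟨z, hz, hz'⟩ := h2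
      exact ⟨⟨z, hz⟩, Subtype.ext hz'⟩
    have hn2 : π.range.Normal := by
      have h1 : π.range = φL.range.map (f.comp e.toMonoidHom) := MonoidHom.range_comp _ _
      rw [h1]
      exact Subgroup.Normal.map hn1 _ (hf.comp e.surjective)
    refine hn2.eq_bot_or_eq_top.resolve_left ?_
    intro hbot
    apply hA
    have h1 : Group.IsSolvable (derivedSeries A n) := by
      have h2 : π.ker = ⊤ := by
        rw [eq_top_iff]
        intro x _
        have : π x ∈ π.range := ⟨x, rfl⟩
        rw [hbot] at this
        exact this
      rw [h2] at hπk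
      exact Group.isSolvable_of_surjective (f := (Subgroup.topEquiv (G := derivedSeries A n)).toMonoidHom)
        (Subgroup.topEquiv (G := derivedSeries A n)).surjective
    have h3 : Group.IsSolvable (A ⧸ derivedSeries A n) := by
      rw [Group.isSolvable_def]
      refine ⟨n, ?_⟩
      rw [← map_derivedSeries_eq (QuotientGroup.mk'_surjective (derivedSeries A n)) n]
      rw [Subgroup.map_eq_bot_iff, QuotientGroup.ker_mk']
    refine Group.isSolvable_of_ker_le_range (derivedSeries A n).subtype (QuotientGroup.mk' (derivedSeries A n)) ?_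
    rw [QuotientGroup.ker_mk', Subgroup.range_subtype]
  have hchar : ∀ x ∈ derivedSeries A n, α x ∈ derivedSeries A n := by
    intro x hx
    have := map_derivedSeries_eq (f := α.toMonoidHom) α.surjective n
    rw [← this]
    exact Subgroup.mem_map_of_mem _ hx
  exact inv_bound α (derivedSeries A n) hchar π hπ hπk

end Cfsg.Agent.H960.HT
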