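import Cfsg.Agent.H960.HT.Five
import Cfsg.Agent.H337.HT.QS

/-! Schur's lemma for irreducible linear groups over `ZMod p`; the field of endomorphisms; the quasisimple
setting `QS`; dimension 2 over the field of endomorphisms. -/

set_option autoImplicit false
set_option linter.unusedSectionVars false
set_option linter.unusedVariables false

namespace Cfsg.Agent.H960.HT

open MulAction Cfsg.Agent.H828.HT Cfsg.Agent.PermutationGroups.AutSL25
open scoped commutatorElement

universe u

variable {p : ℕ} [Fact p.Prime] {V : Type u} [AddCommGroup V] [Module (ZMod p) V]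

/-- a linear map commuting with `L` commutes with the enveloping algebra -/
theorem comm_env {L : Subgroup (V ≃ₗ[ZMod p] V)} {f : V →ₗ[ZMod p] V} (hf : ∀ l ∈ L, ∀ v, f (l v) = l (f v))
    {x : Module.End (ZMod p) V} (hx : x ∈ env L) : ∀ v, f (x v) = x (f v) := by
  refine Algebra.adjoin_induction (p := fun x _ => ∀ v, f (x v) = x (f v)) ?_ ?_ ?_ ?_ hx
  · rintro _ ⟨n, hn, rfl⟩ v
    exact hf n hn v
  · intro r v
    exact map_smul f r v
  · intro x y _ _ hx hy v
    change f (x v + y v) = x (f v) + y (f v)
    rw [map_add, hx, hy]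
  · intro x y _ _ hx hy v
    change f (x (y v)) = x (y (f v))
    rw [hx, hy]

/-- ... as an endomorphism over the enveloping algebra -/
def endOf {L : Subgroup (V ≃ₗ[ZMod p] V)} (f : V →ₗ[ZMod p] V) (hf : ∀ l ∈ L, ∀ v, f (l v) = l (f v)) :
    Module.End (env L) V where
  toFun := f
  map_add' := map_add f
  map_smul' := fun x v => comm_env hf x.2 v

theorem isSimple_env {L : Subgroup (V ≃ₗ[ZMod p] V)} (hL : Irr L) [Nontrivial V] : IsSimpleModule (env L) V := by
  rw [isSimpleModule_iff]
  refine { exists_pair_ne := ⟨⊥, ⊤, bot_ne_top⟩, eq_bot_or_eq_top := ?_ }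
  intro W
  rcases hL (toV W) (fun g hg v hv => toV_inv W g hg v hv) with h | h
  · left
    rw [eq_bot_iff]
    intro v hv
    have : v ∈ toV W := hv
    rw [h] at this
    exact this
  · right
    rw [eq_top_iff]
    intro v _
    have : v ∈ toV W := by rw [h]; trivial
    exact this

variable [Finite V]

/-- the field of endomorphisms of an irreducible group -/
@[reducible] noncomputable def endField {L : Subgroup (V ≃ₗ[ZMod p] V)} (hL : Irr L) [Nontrivial V] :
    Field (Module.End (env L) V) := by
  classical
  have := isSimple_env hL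
  have : Finite (Module.End (env L) V) := Finite.of_injective (fun f => (f : V → V)) DFunLike.coe_injective
  exact littleWedderburn _

theorem end_comm {L : Subgroup (V ≃ₗ[ZMod p] V)} (hL : Irr L) [Nontrivial V] {a b : V →ₗ[ZMod p] V}
    (ha : ∀ l ∈ L, ∀ v, a (l v) = l (a v)) (hb : ∀ l ∈ L, ∀ v, b (l v) = l (b v)) (v : V) :
    a (b v) = b (a v) := by
  have h1 := (endField hL).mul_comm (endOf a ha) (endOf b hb)
  exact congrArg (fun f : Module.End (env L) V => f v) h1

/-- the centraliser of an irreducible group is commutative -/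
theorem cent_comm {L : Subgroup (V ≃ₗ[ZMod p] V)} (hL : Irr L) [Nontrivial V] {a b : V ≃ₗ[ZMod p] V}
    (ha : ∀ l ∈ L, a * l = l * a) (hb : ∀ l ∈ L, b * l = l * b) : a * b = b * a := by
  apply LinearEquiv.ext
  intro v
  exact end_comm hL (a := (a : V →ₗ[ZMod p] V)) (b := (b : V →ₗ[ZMod p] V))
    (fun l hl v => congrArg (fun f : V ≃ₗ[ZMod p] V => f v) (ha l hl))
    (fun l hl v => congrArg (fun f : V ≃ₗ[ZMod p] V => f v) (hb l hl)) v

/-- `V` as a vector space over the field of endomorphisms -/
@[reducible] noncomputable def endModule {L : Subgroup (V ≃ₗ[ZMod p] V)} (hL : Irr L) [Nontrivial V] :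
    @Module (Module.End (env L) V) V (endField hL).toDivisionRing.toDivisionSemiring.toSemiring _ :=
  letI := endField hL
  { smul := fun c v => c v
    one_smul := fun v => rfl
    mul_smul := fun a b v => rfl
    smul_zero := fun a => map_zero a
    smul_add := fun a v w => map_add a v w
    add_smul := fun a b v => rfl
    zero_smul := fun v => rfl }

/-- a perfect `p'`-group of `K`-linear maps of a two-dimensional space is semiregular -/
theorem semireg_of_two {K : Type u} [Field K] [Module K V] {L : Subgroup (V ≃ₗ[ZMod p] V)}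
    (hlin : ∀ l ∈ L, ∀ (c : K) (v : V), l (c • v) = c • l v) (hperf : commutator L = ⊤)
    (hp : ¬ p ∣ Nat.card L) (h2 : Module.finrank K V = 2) :
    ∀ g ∈ L, ∀ v : V, v ≠ 0 → g v = v → g = 1 := by
  classical
  intro g hg v hv hgv
  -- `K`-linear version
  let toK : L →* (V ≃ₗ[K] V) :=
    { toFun := fun l =>
        { toFun := l.1
          invFun := l.1.symm
          left_inv := l.1.left_inv
          right_inv := l.1.right_inv
          map_add' := map_add l.1
          map_smul' := fun c v => hlin l.1 l.2 c v }
      map_one' := rfl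
      map_mul' := fun a b => rfl }
  have hdet : ∀ l : L, LinearEquiv.det (toK l) = 1 := by
    intro l
    have h1 : commutator L ≤ (LinearEquiv.det.comp toK).ker := Abelianization.commutator_subset_ker _
    rw [hperf] at h1
    exact h1 (Subgroup.mem_top l)
  -- characteristic
  have hchar : (p : K) = 0 := by
    have h1 : (p : K) • v = 0 := by
      rw [Nat.cast_smul_eq_nsmul]
      have : (p : ℕ) • v = ((p : ZMod p)) • v := (Nat.cast_smul_eq_nsmul (ZMod p) p v).symm
      rw [this, ZMod.natCast_self, zero_smul]
    exact (smul_eq_zero.1 h1).resolve_right hv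
  have hfin : FiniteDimensional K V := Module.finite_of_finrank_pos (by omega)
  obtain ⟨w, hw⟩ := exists_linearIndependent_pair_of_one_lt_finrank (by omega : 1 < Module.finrank K V) hv
  let b : Module.Basis (Fin 2) K V := basisOfLinearIndependentOfCardEqFinrank hw (by rw [Fintype.card_fin, h2])
  have hb0 : b 0 = v := by simp [b]
  have hb1 : b 1 = w := by simp [b]
  set G : V ≃ₗ[K] V := toK ⟨g, hg⟩ with hG
  have hGv : G v = v := hgv
  have hrep : G w = b.repr (G w) 0 • v + b.repr (G w) 1 • w := by
    have := b.sum_repr (G w)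
    rw [Fin.sum_univ_two, hb0, hb1] at this
    exact this.symm
  set a := b.repr (G w) 0
  set c := b.repr (G w) 1
  have hc : c = 1 := by
    have h1 : LinearMap.det (G : V →ₗ[K] V) = 1 := by
      have := congrArg Units.val (hdet ⟨g, hg⟩)
      rw [LinearEquiv.coe_det] at this
      exact this
    rw [← LinearMap.det_toMatrix b, Matrix.det_fin_two] at h1
    simp only [LinearMap.toMatrix_apply, LinearEquiv.coe_coe, hb0, hb1, hGv] at h1
    have e1 : b.repr v 0 = 1 := by rw [← hb0, b.repr_self]; simp
    have e2 : b.repr v 1 = 0 := by rw [← hb0, b.repr_self]; simp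
    rw [e1, e2, one_mul, mul_zero, sub_zero] at h1
    exact h1
  rw [hc, one_smul] at hrep
  have hpow : ∀ n : ℕ, (g ^ n) w = ((n : K) * a) • v + w := by
    intro n
    induction n with
    | zero => simp
    | succ n ih =>
      rw [pow_succ']
      change g ((g ^ n) w) = _
      rw [ih, map_add, hlin g hg, hgv]
      have : g w = a • v + w := hrep
      rw [this, ← add_assoc, ← add_smul]
      push_cast
      ring_nf
  have hord := hpow (orderOf g)
  rw [pow_orderOf_eq_one] at hord
  have h3 : ((orderOf g : K) * a) • v = 0 := by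
    have : w = ((orderOf g : K) * a) • v + w := hord
    exact add_eq_right.1 this.symm
  have h4 := (smul_eq_zero.1 h3).resolve_right hv
  have h5 : (orderOf g : K) ≠ 0 := by
    intro h0
    have hpp : p.Prime := Fact.out
    have h6 : Nat.Coprime (orderOf g) p := by
      rw [Nat.coprime_comm, hpp.coprime_iff_not_dvd]
      intro hd
      apply hp
      have h7 : orderOf (⟨g, hg⟩ : L) ∣ Nat.card L := orderOf_dvd_natCard _
      rw [← Subgroup.orderOf_coe] at h7
      exact hd.trans h7
    have h8 := Nat.gcd_eq_gcd_ab (orderOf g) p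
    rw [h6] at h8
    have h9 : ((1 : ℕ) : K) = 0 := by
      have : (((1 : ℕ) : ℤ) : K) = ((orderOf g * (orderOf g).gcdA p + p * (orderOf g).gcdB p : ℤ) : K) := by rw [h8]
      push_cast at this
      rw [h0, hchar, zero_mul, zero_mul, add_zero] at this
      simp at this
    simp at h9
  have ha : a = 0 := (mul_eq_zero.1 h4).resolve_left h5
  rw [ha, zero_smul, zero_add] at hrep
  apply LinearEquiv.ext
  intro x
  have hx := b.sum_repr x
  rw [Fin.sum_univ_two, hb0, hb1] at hx
  rw [← hx, map_add, hlin g hg, hlin g hg, hgv]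
  have : g w = w := hrep
  rw [this]
  rfl

end Cfsg.Agent.H960.HT
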