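import Mathlib

/-! Two blocks of imprimitivity for a half-transitive linear group: the point stabilisers have order 2 and
an involution outside the block stabiliser inverts many elements of it. -/

set_option autoImplicit false
set_option linter.unusedSectionVars false

namespace Cfsg.Agent.H960.HT

open MulAction

section three

variable {X : Type*} [AddCommGroup X] [Finite X]

theorem three_mul_card_le (hodd : Odd (Nat.card X)) {F : AddSubgroup X} (hF : F ≠ ⊤) :
    3 * Nat.card F ≤ Nat.card X := by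
  have h1 := AddSubgroup.card_mul_index F
  have h2 : F.index ≠ 1 := fun h => hF (AddSubgroup.index_eq_one.1 h)
  have h3 : F.index ≠ 0 := AddSubgroup.index_ne_zero_of_finite
  have h4 : F.index ≠ 2 := by
    intro h
    rw [h] at h1
    rw [← h1] at hodd
    rw [Nat.odd_iff] at hodd
    omega
  nlinarith [Nat.card_pos (α := F), show 3 ≤ F.index by omega]

/-- A finite abelian group of odd order is not a union of three proper subgroups. -/
theorem top_of_three (hodd : Odd (Nat.card X)) (A B C : AddSubgroup X)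
    (h : ∀ x, x ∈ A ∨ x ∈ B ∨ x ∈ C) : A = ⊤ ∨ B = ⊤ ∨ C = ⊤ := by
  classical
  by_contra hc
  push Not at hc
  obtain ⟨hA, hB, hC⟩ := hc
  have := Fintype.ofFinite X
  have a1 := three_mul_card_le hodd hA
  have b1 := three_mul_card_le hodd hB
  have c1 := three_mul_card_le hodd hC
  set FA := Finset.univ.filter (fun x => x ∈ A) with hFA
  set FB := Finset.univ.filter (fun x => x ∈ B) with hFB
  set FC := Finset.univ.filter (fun x => x ∈ C) with hFC
  have ca : Nat.card A = FA.card := by rw [Nat.card_eq_fintype_card]; exact Fintype.card_subtype _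
  have cb : Nat.card B = FB.card := by rw [Nat.card_eq_fintype_card]; exact Fintype.card_subtype _
  have cc : Nat.card C = FC.card := by rw [Nat.card_eq_fintype_card]; exact Fintype.card_subtype _
  have hu : (Finset.univ : Finset X) ⊆ FA ∪ ((FB.erase 0) ∪ (FC.erase 0)) := by
    intro x _
    by_cases hx : x = 0
    · subst hx; simp [hFA, A.zero_mem]
    · simp only [Finset.mem_union, Finset.mem_erase, hFA, hFB, hFC, Finset.mem_filter, Finset.mem_univ,
        true_and]
      rcases h x with h | h | h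
      · exact Or.inl h
      · exact Or.inr (Or.inl ⟨hx, h⟩)
      · exact Or.inr (Or.inr ⟨hx, h⟩)
  have h1 := Finset.card_le_card hu
  have h2 := Finset.card_union_le FA ((FB.erase 0) ∪ (FC.erase 0))
  have h3 := Finset.card_union_le (FB.erase 0) (FC.erase 0)
  have zb : (0 : X) ∈ FB := by simp [hFB, B.zero_mem]
  have zc : (0 : X) ∈ FC := by simp [hFC, C.zero_mem]
  rw [Finset.card_erase_of_mem zb, Finset.card_erase_of_mem zc] at h3
  have pb : 0 < FB.card := Finset.card_pos.2 ⟨0, zb⟩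
  rw [Finset.card_univ, ← Nat.card_eq_fintype_card] at h1
  omega

end three

variable {V : Type*} [AddCommGroup V] {G : Type*} [Group G] [DistribMulAction G V]

/-- fixed vectors of an element -/
def Fx (V : Type*) [AddCommGroup V] {G : Type*} [Group G] [DistribMulAction G V] (g : G) : AddSubgroup V where
  carrier := {v | g • v = v}
  zero_mem' := smul_zero g
  add_mem' := by
    intro a b ha hb
    change g • (a + b) = a + b
    rw [smul_add, ha, hb]
  neg_mem' := by
    intro a ha
    change g • (-a) = -a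
    rw [smul_neg, ha]

@[simp] theorem mem_Fx {g : G} {v : V} : v ∈ Fx V g ↔ g • v = v := Iff.rfl

theorem odd_sub [Finite V] (hodd : Odd (Nat.card V)) (X : AddSubgroup V) : Odd (Nat.card X) := by
  have := AddSubgroup.card_addSubgroup_dvd_card X
  exact Odd.of_dvd_nat hodd this

/-- If every orbit of `⟨a, b⟩` on `X` is at most a pair, then `a`, `b` or `a⁻¹ b` is trivial on `X`. -/
theorem two_of_orbit [Finite V] (hodd : Odd (Nat.card V)) (X : AddSubgroup V) (a b : G)
    (h : ∀ x ∈ X, a • x = x ∨ b • x = x ∨ a • x = b • x) :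
    (∀ x ∈ X, a • x = x) ∨ (∀ x ∈ X, b • x = x) ∨ (∀ x ∈ X, a • x = b • x) := by
  have h1 := top_of_three (odd_sub hodd X) ((Fx V a).comap X.subtype) ((Fx V b).comap X.subtype)
    ((Fx V (b⁻¹ * a)).comap X.subtype) (by
      intro x
      rcases h x.1 x.2 with h | h | h
      · exact Or.inl h
      · exact Or.inr (Or.inl h)
      · right; right
        change (b⁻¹ * a) • x.1 = x.1
        rw [mul_smul, h, inv_smul_smul])
  rcases h1 with h | h | h
  · left
    intro x hx
    have : (⟨x, hx⟩ : X) ∈ (Fx V a).comap X.subtype := by rw [h]; trivial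
    exact this
  · right; left
    intro x hx
    have : (⟨x, hx⟩ : X) ∈ (Fx V b).comap X.subtype := by rw [h]; trivial
    exact this
  · right; right
    intro x hx
    have : (⟨x, hx⟩ : X) ∈ (Fx V (b⁻¹ * a)).comap X.subtype := by rw [h]; trivial
    have h2 : (b⁻¹ * a) • x = x := this
    rw [mul_smul, inv_smul_eq_iff] at h2
    exact h2

/-- Two blocks swapped by a half-transitive group. -/
structure TwoBlk (G : Type*) {V : Type*} [AddCommGroup V] [Group G] [DistribMulAction G V]
    (U W : AddSubgroup V) (h : ℕ) : Prop where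
  odd : Odd (Nat.card V)
  half : ∀ v : V, v ≠ 0 → Nat.card (stabilizer G v) = h
  h2 : 2 ≤ h
  compl : IsCompl U W
  nbU : U ≠ ⊥
  nbW : W ≠ ⊥
  perm : ∀ g : G, ((∀ u ∈ U, g • u ∈ U) ∧ (∀ w ∈ W, g • w ∈ W)) ∨
    ((∀ u ∈ U, g • u ∈ W) ∧ (∀ w ∈ W, g • w ∈ U))
  swap : ∃ g : G, (∀ u ∈ U, g • u ∈ W) ∧ (∀ w ∈ W, g • w ∈ U)
  irr : ∀ X : AddSubgroup V, (∀ g : G, ∀ x ∈ X, g • x ∈ X) → X = ⊥ ∨ X = ⊤

/-- the stabiliser of the two blocks -/
def bst (G : Type*) {V : Type*} [AddCommGroup V] [Group G] [DistribMulAction G V]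
    (U W : AddSubgroup V) : Subgroup G where
  carrier := {g | (∀ u, g • u ∈ U ↔ u ∈ U) ∧ (∀ w, g • w ∈ W ↔ w ∈ W)}
  one_mem' := by simp
  mul_mem' := by
    intro a b ha hb
    refine ⟨fun u => ?_, fun w => ?_⟩
    · rw [mul_smul, ha.1, hb.1]
    · rw [mul_smul, ha.2, hb.2]
  inv_mem' := by
    intro a ha
    refine ⟨fun u => ?_, fun w => ?_⟩
    · rw [← ha.1, smul_inv_smul]
    · rw [← ha.2, smul_inv_smul]

namespace TwoBlk

variable {U W : AddSubgroup V} {h : ℕ}

theorem symm (H : TwoBlk G U W h) : TwoBlk G W U h where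
  odd := H.odd
  half := H.half
  h2 := H.h2
  compl := H.compl.symm
  nbU := H.nbW
  nbW := H.nbU
  perm := fun g => (H.perm g).imp And.symm And.symm
  swap := H.swap.imp fun _ => And.symm
  irr := H.irr

theorem disj (H : TwoBlk G U W h) {v : V} (hu : v ∈ U) (hw : v ∈ W) : v = 0 := by
  have := H.compl.disjoint
  rw [AddSubgroup.disjoint_def] at this
  exact this hu hw

theorem exU (H : TwoBlk G U W h) : ∃ u ∈ U, u ≠ 0 := (AddSubgroup.bot_or_exists_ne_zero U).resolve_left H.nbU

theorem not_both (H : TwoBlk G U W h) (g : G) (h1 : ∀ u ∈ U, g • u ∈ U) (h2 : ∀ u ∈ U, g • u ∈ W) : False := by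
  obtain ⟨u, hu, hu0⟩ := H.exU
  have := H.disj (h1 u hu) (h2 u hu)
  rw [smul_eq_zero_iff_eq] at this
  exact hu0 this

theorem swap_inv (H : TwoBlk G U W h) {g : G} (hg : (∀ u ∈ U, g • u ∈ W) ∧ (∀ w ∈ W, g • w ∈ U)) :
    (∀ u ∈ U, g⁻¹ • u ∈ W) ∧ (∀ w ∈ W, g⁻¹ • w ∈ U) := by
  rcases H.perm g⁻¹ with h | h
  · exfalso
    obtain ⟨u, hu, hu0⟩ := H.exU
    have h1 := hg.1 _ (h.1 u hu)
    rw [smul_inv_smul] at h1
    exact hu0 (H.disj hu h1)
  · exact h

theorem mem_of_pres (H : TwoBlk G U W h) {g : G} (hg : (∀ u ∈ U, g • u ∈ U) ∧ (∀ w ∈ W, g • w ∈ W)) :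
    g ∈ bst G U W := by
  have hi : (∀ u ∈ U, g⁻¹ • u ∈ U) ∧ (∀ w ∈ W, g⁻¹ • w ∈ W) := by
    rcases H.perm g⁻¹ with h | h
    · exact h
    · exfalso
      obtain ⟨u, hu, hu0⟩ := H.exU
      have h1 := hg.2 _ (h.1 u hu)
      rw [smul_inv_smul] at h1
      exact hu0 (H.disj hu h1)
  refine ⟨fun u => ⟨fun hu => ?_, hg.1 u⟩, fun w => ⟨fun hw => ?_, hg.2 w⟩⟩
  · have := hi.1 _ hu
    rwa [inv_smul_smul] at this
  · have := hi.2 _ hw
    rwa [inv_smul_smul] at this

theorem perm' (H : TwoBlk G U W h) (g : G) : g ∈ bst G U W ∨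
    ((∀ u ∈ U, g • u ∈ W) ∧ (∀ w ∈ W, g • w ∈ U)) :=
  (H.perm g).imp H.mem_of_pres id

theorem not_mem_iff (H : TwoBlk G U W h) (g : G) : g ∉ bst G U W ↔
    ((∀ u ∈ U, g • u ∈ W) ∧ (∀ w ∈ W, g • w ∈ U)) := by
  constructor
  · intro hg
    exact (H.perm' g).resolve_left hg
  · intro hg hg'
    exact H.not_both g (fun u hu => (hg'.1 u).2 hu) hg.1

theorem bst_symm : bst G U W = bst G W U := by
  ext g
  exact And.comm

/-- the product of two swapping elements lies in the block stabiliser -/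
theorem mul_mem (H : TwoBlk G U W h) {g k : G} (hg : g ∉ bst G U W) (hk : k ∉ bst G U W) :
    g * k ∈ bst G U W := by
  rw [H.not_mem_iff] at hg hk
  apply H.mem_of_pres
  refine ⟨fun u hu => ?_, fun w hw => ?_⟩
  · rw [mul_smul]; exact hg.2 _ (hk.1 _ hu)
  · rw [mul_smul]; exact hg.1 _ (hk.2 _ hw)

theorem stab_le (H : TwoBlk G U W h) {u : V} (hu : u ∈ U) (hu0 : u ≠ 0) :
    stabilizer G u ≤ bst G U W := by
  intro g hg
  rcases H.perm' g with h | h
  · exact h
  · exfalso
    have := h.1 u hu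
    rw [mem_stabilizer_iff.1 hg] at this
    exact hu0 (H.disj hu this)

/-- the blocks are irreducible under the block stabiliser -/
theorem irrU (H : TwoBlk G U W h) (X : AddSubgroup V) (hX : X ≤ U)
    (hinv : ∀ a ∈ bst G U W, ∀ x ∈ X, a • x ∈ X) : X = ⊥ ∨ X = U := by
  obtain ⟨s, hs⟩ := H.swap
  have hsn : s ∉ bst G U W := (H.not_mem_iff s).2 hs
  have hsi : s⁻¹ ∉ bst G U W := fun h => hsn (by simpa using (bst G U W).inv_mem h)
  let Y : AddSubgroup V := X ⊔ X.map (DistribSMul.toAddMonoidHom V s)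
  have hY : ∀ g : G, ∀ x ∈ Y, g • x ∈ Y := by
    intro g y hy
    obtain ⟨x, hx, z, hz, rfl⟩ := AddSubgroup.mem_sup.1 hy
    obtain ⟨x', hx', rfl⟩ := AddSubgroup.mem_map.1 hz
    change g • (x + s • x') ∈ Y
    rw [smul_add]
    have mk : ∀ a ∈ X, s • a ∈ Y := fun a ha => AddSubgroup.mem_sup_right (AddSubgroup.mem_map.2 ⟨a, ha, rfl⟩)
    refine Y.add_mem ?_ ?_
    · by_cases hg : g ∈ bst G U W
      · exact AddSubgroup.mem_sup_left (hinv g hg x hx)
      · have := mk _ (hinv _ (H.mul_mem hsi hg) x hx)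
        rwa [smul_smul, mul_inv_cancel_left] at this
    · rw [smul_smul]
      by_cases hg : g ∈ bst G U W
      · have h1 : s⁻¹ * (g * s) ∈ bst G U W := by
          apply H.mul_mem hsi
          intro h2
          exact hsn (by simpa using (bst G U W).mul_mem ((bst G U W).inv_mem hg) h2)
        have := mk _ (hinv _ h1 x' hx')
        rwa [smul_smul, mul_inv_cancel_left] at this
      · exact AddSubgroup.mem_sup_left (hinv _ (H.mul_mem hg hsn) x' hx')
  rcases H.irr Y hY with h | h
  · left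
    rw [eq_bot_iff, ← h]
    exact le_sup_left
  · right
    refine le_antisymm hX ?_
    intro u hu
    have : u ∈ Y := by rw [h]; trivial
    obtain ⟨x, hx, z, hz, rfl⟩ := AddSubgroup.mem_sup.1 this
    obtain ⟨x', hx', rfl⟩ := AddSubgroup.mem_map.1 hz
    change x + s • x' ∈ U at hu
    have h1 : s • x' ∈ U := by simpa using U.sub_mem hu (hX hx)
    have h2 : s • x' = 0 := H.disj h1 (hs.1 _ (hX hx'))
    change x + s • x' ∈ X
    rw [h2, add_zero]; exact hx

theorem _root_.Cfsg.Agent.H960.HT.card_mul_relIndex {D S : Subgroup G} (h : D ≤ S) :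
    Nat.card D * D.relIndex S = Nat.card S := by
  rw [← Subgroup.relIndex_bot_left, ← Subgroup.relIndex_bot_left, Subgroup.relIndex_mul_relIndex _ _ _ bot_le h]

/-- stabilisers of vectors in different blocks -/
theorem pair [Finite G] (H : TwoBlk G U W h) {u w : V} (hu : u ∈ U) (hw : w ∈ W) (hu0 : u ≠ 0) (hw0 : w ≠ 0)
    {a b : G} (ha : a • w = w) (hb : b • w = w) : a • u = u ∨ b • u = u ∨ a • u = b • u := by
  -- D = G_u ∩ G_w has index at most 2 in G_w
  set D := stabilizer G u ⊓ stabilizer G w with hD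
  have hv : u + w ≠ 0 := by
    intro h
    have : u ∈ W := by
      rw [eq_neg_of_add_eq_zero_left h]
      exact W.neg_mem hw
    exact hu0 (H.disj hu this)
  have e1 : stabilizer G (u + w) ⊓ bst G U W = D := by
    ext g
    simp only [Subgroup.mem_inf, mem_stabilizer_iff, hD]
    constructor
    · rintro ⟨h1, h2⟩
      have h3 : g • u - u ∈ U := U.sub_mem ((h2.1 u).2 hu) hu
      have h4 : g • u - u = w - g • w := by
        rw [smul_add] at h1
        rw [sub_eq_sub_iff_add_eq_add, h1, add_comm]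
      have h5 : g • u - u ∈ W := by rw [h4]; exact W.sub_mem hw ((h2.2 w).2 hw)
      have h6 := H.disj h3 h5
      refine ⟨sub_eq_zero.1 h6, ?_⟩
      rw [h6] at h4
      exact (sub_eq_zero.1 h4.symm).symm
    · rintro ⟨h1, h2⟩
      refine ⟨by rw [smul_add, h1, h2], H.stab_le hu hu0 h1⟩
  have c1 : h ≤ 2 * Nat.card D := by
    rw [← H.half _ hv, ← e1]
    -- index of (bst) in G at most 2
    have h1 : (bst G U W).relIndex (stabilizer G (u + w)) ≤ 2 := by
      have h2 : (bst G U W).index ≤ 2 := by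
        have h3 : (bst G U W).index = 2 := by
          rw [Subgroup.index_eq_two_iff]
          obtain ⟨s, hs⟩ := H.swap
          refine ⟨s, fun b => ?_⟩
          have hsn : s ∉ bst G U W := (H.not_mem_iff s).2 hs
          by_cases hb : b ∈ bst G U W
          · right
            refine ⟨hb, fun h => hsn ?_⟩
            simpa using (bst G U W).mul_mem ((bst G U W).inv_mem hb) h
          · left
            exact ⟨H.mul_mem hb hsn, hb⟩
        exact h3.le
      rw [← Subgroup.relIndex_top_right] at h2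
      exact le_trans (Subgroup.relIndex_le_of_le_right le_top (by
        rw [Subgroup.relIndex_top_right]; exact Subgroup.index_ne_zero_of_finite)) h2
    have h2 := card_mul_relIndex (D := stabilizer G (u + w) ⊓ bst G U W) (S := stabilizer G (u + w))
      (inf_le_left)
    rw [Subgroup.inf_relIndex_left] at h2
    rw [← h2, mul_comm]
    exact Nat.mul_le_mul_right _ h1
  have c2 : Nat.card (stabilizer G w) = h := H.half w hw0
  have c3 : Nat.card D * D.relIndex (stabilizer G w) = h := by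
    rw [card_mul_relIndex (D := D) (S := stabilizer G w) inf_le_right, c2]
  have c4 : D.relIndex (stabilizer G w) ≤ 2 := by
    by_contra hc
    have : 0 < Nat.card D := Nat.card_pos
    nlinarith
  have c5 : D.relIndex (stabilizer G w) ≠ 0 := by
    intro h0
    rw [h0, mul_zero] at c3
    have := H.h2
    omega
  by_contra hcon
  push Not at hcon
  obtain ⟨hau, hbu, hab⟩ := hcon
  have c6 : D.relIndex (stabilizer G w) ≠ 1 := by
    intro h1
    rw [Subgroup.relIndex_eq_one] at h1
    exact hau (h1 ha).1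
  have c7 : (D.subgroupOf (stabilizer G w)).index = 2 := by
    change D.relIndex (stabilizer G w) = 2
    omega
  have c8 := Subgroup.mul_mem_iff_of_index_two c7 (a := (⟨b, hb⟩ : stabilizer G w)⁻¹) (b := ⟨a, ha⟩)
  simp only [Subgroup.mem_subgroupOf, Subgroup.inv_mem_iff] at c8
  have n1 : (b : G) ∉ D := fun h => hbu h.1
  have n2 : (a : G) ∉ D := fun h => hau h.1
  have c9 : b⁻¹ * a ∈ D := by
    have : ((⟨b, hb⟩ : stabilizer G w)⁻¹ * ⟨a, ha⟩ : stabilizer G w).1 = b⁻¹ * a := rfl
    rw [← this]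
    refine c8.2 ?_
    constructor
    · intro h; exact absurd h n1
    · intro h; exact absurd h n2
  apply hab
  have h1 : (b⁻¹ * a) • u = u := c9.1
  rw [mul_smul, inv_smul_eq_iff] at h1
  exact h1

variable [FaithfulSMul G V]

/-- an element trivial on both blocks is trivial -/
theorem eq_one (H : TwoBlk G U W h) {g : G} (hU : ∀ u ∈ U, g • u = u) (hW : ∀ w ∈ W, g • w = w) : g = 1 := by
  apply FaithfulSMul.eq_of_smul_eq_smul (α := V)
  intro v
  have : v ∈ U ⊔ W := by rw [H.compl.sup_eq_top]; trivial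
  obtain ⟨u, hu, w, hw, rfl⟩ := AddSubgroup.mem_sup.1 this
  rw [smul_add, hU u hu, hW w hw, one_smul]

theorem eq_of (H : TwoBlk G U W h) {a b : G} (hU : ∀ u ∈ U, a • u = b • u) (hW : ∀ w ∈ W, a • w = b • w) :
    a = b := by
  have := H.eq_one (g := b⁻¹ * a) (fun u hu => by rw [mul_smul, hU u hu, inv_smul_smul])
    (fun w hw => by rw [mul_smul, hW w hw, inv_smul_smul])
  rw [inv_mul_eq_one] at this
  exact this.symm

variable [Finite V] [Finite G]

/-- the pointwise stabiliser of a block has at most two elements -/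
theorem kern (H : TwoBlk G U W h) {a b : G} (ha : ∀ u ∈ U, a • u = u) (hb : ∀ u ∈ U, b • u = u) :
    a = 1 ∨ b = 1 ∨ a = b := by
  obtain ⟨u, hu, hu0⟩ := H.exU
  rcases two_of_orbit H.odd W a b (by
    intro w hw
    by_cases hw0 : w = 0
    · subst hw0; left; exact smul_zero a
    · exact H.symm.pair hw hu hw0 hu0 (ha u hu) (hb u hu)) with h | h | h
  · exact Or.inl (H.eq_one ha h)
  · exact Or.inr (Or.inl (H.eq_one hb h))
  · exact Or.inr (Or.inr (H.eq_of (fun u hu => by rw [ha u hu, hb u hu]) h))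

omit [FaithfulSMul G V] [Finite V] [Finite G] in
theorem conj_kern (_H : TwoBlk G U W h) {a z : G} (ha : a ∈ bst G U W) (hz : ∀ u ∈ U, z • u = u) :
    ∀ u ∈ U, (a * z * a⁻¹) • u = u := by
  intro u hu
  rw [mul_smul, mul_smul, hz, smul_inv_smul]
  exact (((bst G U W).inv_mem ha).1 u).2 hu

/-- a non-trivial element trivial on `U` has no fixed points on `W` -/
theorem kern_fpf (H : TwoBlk G U W h) {z : G} (hz : ∀ u ∈ U, z • u = u) (hz1 : z ≠ 1) {w : V} (hw : w ∈ W)
    (hzw : z • w = w) : w = 0 := by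
  have hc : ∀ a ∈ bst G U W, a * z * a⁻¹ = z := by
    intro a ha
    have hne : a * z * a⁻¹ ≠ 1 := by
      intro h
      rw [mul_inv_eq_one, mul_eq_left] at h
      exact hz1 h
    exact ((H.kern (H.conj_kern ha hz) hz).resolve_left hne).resolve_left hz1
  rcases H.symm.irrU (Fx V z ⊓ W) inf_le_right (by
    rintro a ha x ⟨hx1, hx2⟩
    rw [bst_symm] at ha
    refine ⟨?_, (ha.2 x).2 hx2⟩
    change z • a • x = a • x
    have hzx : z • x = x := hx1
    have : z • a • x = (a * z * a⁻¹) • a • x := by rw [hc a ha]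
    rw [this, mul_smul, inv_smul_smul, mul_smul, hzx]) with h | h
  · have : w ∈ Fx V z ⊓ W := ⟨hzw, hw⟩
    rw [h] at this
    exact this
  · exfalso
    apply hz1
    apply H.eq_one hz
    intro x hx
    rw [← h] at hx
    exact hx.1

/-- the point stabilisers have exactly two elements -/
theorem stab_pair (H : TwoBlk G U W h) {w : V} (hw : w ∈ W) (hw0 : w ≠ 0) {a b : G} (ha : a • w = w)
    (hb : b • w = w) : a = 1 ∨ b = 1 ∨ a = b := by
  have key : ∀ c : G, c • w = w → (∀ u ∈ U, c • u = u) → c = 1 := by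
    intro c hc hcu
    by_contra hne
    exact hw0 (H.kern_fpf hcu hne hw hc)
  rcases two_of_orbit H.odd U a b (by
    intro u hu
    by_cases hu0 : u = 0
    · subst hu0; left; exact smul_zero a
    · exact H.pair hu hw hu0 hw0 ha hb) with h | h | h
  · exact Or.inl (key a ha h)
  · exact Or.inr (Or.inl (key b hb h))
  · right; right
    have := key (b⁻¹ * a) (by rw [mul_smul, ha, inv_smul_eq_iff, hb]) (fun u hu => by
      rw [mul_smul, h u hu, inv_smul_smul])
    rw [inv_mul_eq_one] at this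
    exact this.symm

theorem h_eq (H : TwoBlk G U W h) : h = 2 := by
  obtain ⟨w, hw, hw0⟩ := H.symm.exU
  have h1 := H.half w hw0
  have h2 := H.h2
  by_contra hne
  have h3 : 2 < Nat.card (stabilizer G w) := by omega
  have := Fintype.ofFinite (stabilizer G w)
  rw [Nat.card_eq_fintype_card] at h3
  obtain ⟨x, y, z, hxy, hxz, hyz⟩ := Fintype.two_lt_card_iff.1 h3
  -- two of the three are non-trivial, or all
  have key : ∀ a b : stabilizer G w, a = 1 ∨ b = 1 ∨ a = b := by
    intro a b
    rcases H.stab_pair hw hw0 (a := a.1) (b := b.1) a.2 b.2 with h | h | h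
    · exact Or.inl (Subtype.ext h)
    · exact Or.inr (Or.inl (Subtype.ext h))
    · exact Or.inr (Or.inr (Subtype.ext h))
  rcases key x y with h | h | h
  · subst h
    rcases key y z with h | h | h
    · exact hxy h.symm
    · exact hxz h.symm
    · exact hyz h
  · subst h
    rcases key x z with h | h | h
    · exact hxy h
    · exact hyz h.symm
    · exact hxz h
  · exact hxy h

/-- every nonzero vector is fixed by exactly one non-trivial element -/
theorem exists_t (H : TwoBlk G U W h) {v : V} (hv : v ≠ 0) :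
    ∃ t : G, t ≠ 1 ∧ t * t = 1 ∧ t • v = v ∧ ∀ s : G, s • v = v → s = 1 ∨ s = t := by
  have h1 : Nat.card (stabilizer G v) = 2 := (H.half v hv).trans H.h_eq
  rw [Nat.card_eq_two_iff] at h1
  obtain ⟨x, y, hxy, hall⟩ := h1
  have key : ∃ t : stabilizer G v, t ≠ 1 ∧ ∀ s : stabilizer G v, s = 1 ∨ s = t := by
    by_cases hx : x = 1
    · refine ⟨y, fun h => hxy (hx.trans h.symm), fun s => ?_⟩
      have : s ∈ ({x, y} : Set _) := by rw [hall]; trivial
      rcases this with h | h
      · left; rw [h, hx]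
      · right; exact h
    · have h1 : (1 : stabilizer G v) ∈ ({x, y} : Set _) := by rw [hall]; trivial
      have hy : y = 1 := by
        rcases h1 with h | h
        · exact absurd h.symm hx
        · exact h.symm
      refine ⟨x, hx, fun s => ?_⟩
      have : s ∈ ({x, y} : Set _) := by rw [hall]; trivial
      rcases this with h | h
      · right; exact h
      · left; rw [← hy]; exact h
  obtain ⟨t, ht1, ht⟩ := key
  refine ⟨t.1, fun h => ht1 (Subtype.ext h), ?_, t.2, fun s hs => ?_⟩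
  · rcases ht (t * t) with h | h
    · exact congrArg Subtype.val h
    · rw [mul_eq_left] at h
      exact absurd h ht1
  · rcases ht ⟨s, hs⟩ with h | h
    · exact Or.inl (congrArg Subtype.val h)
    · exact Or.inr (congrArg Subtype.val h)

theorem uniq_t (H : TwoBlk G U W h) {v : V} (hv : v ≠ 0) {s t : G} (hs : s • v = v) (ht : t • v = v)
    (hs1 : s ≠ 1) (ht1 : t ≠ 1) : s = t := by
  obtain ⟨r, _, _, _, hr⟩ := H.exists_t hv
  rw [(hr s hs).resolve_left hs1, (hr t ht).resolve_left ht1]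

/-- the fixed points of a point stabiliser on the other block -/
theorem fix_sq_le (H : TwoBlk G U W h) {u : V} (hu : u ∈ U) (hu0 : u ≠ 0) {t : G} (ht1 : t ≠ 1)
    (htu : t • u = u) :
    Nat.card (Fx V t ⊓ W : AddSubgroup V) ^ 2 ≤ Nat.card W := by
  set F : AddSubgroup V := Fx V t ⊓ W with hF
  have hne : F ≠ W := by
    intro h
    apply hu0
    refine H.symm.kern_fpf (z := t) ?_ ht1 hu htu
    intro w hw
    rw [← h] at hw
    exact hw.1
  by_cases hb : F = ⊥
  · rw [hb, AddSubgroup.card_bot]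
    have : 0 < Nat.card W := Nat.card_pos
    omega
  obtain ⟨a, ha, x, hx, hax⟩ : ∃ a ∈ bst G U W, ∃ x ∈ F, a • x ∉ F := by
    by_contra hc
    push Not at hc
    rcases H.symm.irrU F inf_le_right (by
      intro a ha x hx
      rw [bst_symm] at ha
      exact hc a ha x hx) with h | h
    · exact hb h
    · exact hne h
  have hconj : a * t * a⁻¹ ≠ 1 := by
    intro h
    rw [mul_inv_eq_one, mul_eq_left] at h
    exact ht1 h
  let f : F × F → W := fun z => ⟨z.1.1 + a • z.2.1, W.add_mem z.1.2.2 ((ha.2 _).2 z.2.2.2)⟩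
  have hf : Function.Injective f := by
    rintro ⟨⟨x₁, hx₁⟩, ⟨y₁, hy₁⟩⟩ ⟨⟨x₂, hx₂⟩, ⟨y₂, hy₂⟩⟩ heq
    have e1 : x₁ + a • y₁ = x₂ + a • y₂ := congrArg Subtype.val heq
    have e2 : x₁ - x₂ = a • (y₂ - y₁) := by
      rw [smul_sub, sub_eq_sub_iff_add_eq_add, e1, add_comm]
    have h1 : t • (x₁ - x₂) = x₁ - x₂ := by rw [smul_sub, hx₁.1, hx₂.1]
    have h2 : (a * t * a⁻¹) • (x₁ - x₂) = x₁ - x₂ := by
      rw [e2, mul_smul, mul_smul, inv_smul_smul, smul_sub, smul_sub, hy₁.1, hy₂.1, smul_sub]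
    by_cases h0 : x₁ - x₂ = 0
    · have h3 : y₂ - y₁ = 0 := by
        rw [h0] at e2
        exact (smul_eq_zero_iff_eq a).1 e2.symm
      have e3 : x₁ = x₂ := sub_eq_zero.1 h0
      have e4 : y₂ = y₁ := sub_eq_zero.1 h3
      subst e3; subst e4; rfl
    · exfalso
      have h3 := H.uniq_t h0 h1 h2 ht1 hconj
      apply hax
      refine ⟨?_, (ha.2 _).2 hx.2⟩
      change t • a • x = a • x
      have hxx : t • x = x := hx.1
      have : t • a • x = (a * t * a⁻¹) • a • x := by rw [← h3]
      rw [this, mul_smul, inv_smul_smul, mul_smul, hxx]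
  have := Nat.card_le_card_of_injective f hf
  rwa [Nat.card_prod, ← sq] at this

/-- swapping involutions -/
theorem card_le_inv (H : TwoBlk G U W h) {u : V} (hu : u ∈ U) (hu0 : u ≠ 0) {t : G} (ht1 : t ≠ 1)
    (htu : t • u = u) :
    Nat.card W ≤ Nat.card (Fx V t ⊓ W : AddSubgroup V) + Nat.card {s : G // s ∉ bst G U W ∧ s * s = 1} := by
  classical
  set F : AddSubgroup V := Fx V t ⊓ W with hF
  have key : ∀ w : W, w.1 ∈ F ∨ ∃ s : {s : G // s ∉ bst G U W ∧ s * s = 1}, s.1 • u = w.1 := by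
    rintro ⟨w, hw⟩
    by_cases hwF : w ∈ F
    · exact Or.inl hwF
    right
    have hw0 : w ≠ 0 := fun h => hwF (by rw [h]; exact F.zero_mem)
    have hv : u + w ≠ 0 := by
      intro h
      have : u ∈ W := by
        rw [eq_neg_of_add_eq_zero_left h]
        exact W.neg_mem hw
      exact hu0 (H.disj hu this)
    obtain ⟨s, hs1, hss, hsv, -⟩ := H.exists_t hv
    have hsn : s ∉ bst G U W := by
      intro hsA
      have h3 : s • u - u ∈ U := U.sub_mem ((hsA.1 u).2 hu) hu
      have h4 : s • u - u = w - s • w := by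
        rw [smul_add] at hsv
        rw [sub_eq_sub_iff_add_eq_add, hsv, add_comm]
      have h5 : s • u - u ∈ W := by rw [h4]; exact W.sub_mem hw ((hsA.2 w).2 hw)
      have h6 := H.disj h3 h5
      have h7 : s • u = u := sub_eq_zero.1 h6
      rw [h6] at h4
      have h8 : s • w = w := (sub_eq_zero.1 h4.symm).symm
      have h9 := H.uniq_t hu0 h7 htu hs1 ht1
      subst h9
      exact hwF ⟨h8, hw⟩
    refine ⟨⟨s, hsn, hss⟩, ?_⟩
    have hsw := (H.not_mem_iff s).1 hsn
    have h3 : s • u - w ∈ W := W.sub_mem (hsw.1 u hu) hw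
    have h4 : s • u - w = u - s • w := by
      rw [smul_add] at hsv
      rw [sub_eq_sub_iff_add_eq_add, hsv, add_comm]
    have h5 : s • u - w ∈ U := by rw [h4]; exact U.sub_mem hu (hsw.2 w hw)
    exact sub_eq_zero.1 (H.disj h5 h3)
  let g : W → F ⊕ {s : G // s ∉ bst G U W ∧ s * s = 1} := fun w =>
    if hw : w.1 ∈ F then Sum.inl ⟨w.1, hw⟩ else Sum.inr ((key w).resolve_left hw).choose
  have hg : Function.Injective g := by
    intro w w' hww
    by_cases h1 : w.1 ∈ F <;> by_cases h2 : w'.1 ∈ F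
    · simp only [g, h1, h2, dif_pos, Sum.inl.injEq, Subtype.mk.injEq] at hww
      exact Subtype.ext hww
    · simp [g, h1, h2] at hww
    · simp [g, h1, h2] at hww
    · simp only [g, h1, h2, dif_neg, not_false_eq_true, Sum.inr.injEq] at hww
      have e1 := ((key w).resolve_left h1).choose_spec
      have e2 := ((key w').resolve_left h2).choose_spec
      rw [hww] at e1
      exact Subtype.ext (e1.symm.trans e2)
  have := Nat.card_le_card_of_injective g hg
  rwa [Nat.card_sum] at this

theorem card_eq (H : TwoBlk G U W h) : Nat.card U = Nat.card W := by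
  obtain ⟨s, hs⟩ := H.swap
  have hsi := H.swap_inv hs
  refine Nat.card_congr ⟨fun u => ⟨s • u.1, hs.1 _ u.2⟩, fun w => ⟨s⁻¹ • w.1, hsi.2 _ w.2⟩, fun u => ?_, fun w => ?_⟩
  · ext; simp
  · ext; simp

/-- conjugation by a swapping involution -/
theorem inverted (H : TwoBlk G U W h) {s : G} (hs : s ∉ bst G U W) (hss : s * s = 1) :
    ∃ α : (bst G U W) ≃* (bst G U W), Nat.card {a : bst G U W // α a = a⁻¹} =
      Nat.card {s : G // s ∉ bst G U W ∧ s * s = 1} := by
  have hsi : s⁻¹ = s := inv_eq_of_mul_eq_one_right hss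
  have hnorm : ∀ a ∈ bst G U W, s * a * s ∈ bst G U W := by
    intro a ha
    apply H.mul_mem _ hs
    intro h
    exact hs (by simpa using (bst G U W).mul_mem h ((bst G U W).inv_mem ha))
  let α : (bst G U W) ≃* (bst G U W) :=
    { toFun := fun a => ⟨s * a.1 * s, hnorm _ a.2⟩
      invFun := fun a => ⟨s * a.1 * s, hnorm _ a.2⟩
      left_inv := by
        intro a
        ext
        change s * (s * a.1 * s) * s = a.1
        calc s * (s * a.1 * s) * s = (s * s) * a.1 * (s * s) := by group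
          _ = a.1 := by rw [hss, one_mul, mul_one]
      right_inv := by
        intro a
        ext
        change s * (s * a.1 * s) * s = a.1
        calc s * (s * a.1 * s) * s = (s * s) * a.1 * (s * s) := by group
          _ = a.1 := by rw [hss, one_mul, mul_one]
      map_mul' := by
        intro a b
        ext
        change s * (a.1 * b.1) * s = (s * a.1 * s) * (s * b.1 * s)
        calc s * (a.1 * b.1) * s = s * a.1 * 1 * b.1 * s := by group
          _ = s * a.1 * (s * s) * b.1 * s := by rw [hss]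
          _ = (s * a.1 * s) * (s * b.1 * s) := by group }
  refine ⟨α, ?_⟩
  have hα : ∀ a : bst G U W, α a = a⁻¹ ↔ (a.1 * s) * (a.1 * s) = 1 := by
    intro a
    rw [← Subtype.coe_inj]
    change s * a.1 * s = (a.1)⁻¹ ↔ _
    rw [← mul_eq_one_iff_eq_inv']
    constructor
    · intro h; rw [← h]; group
    · intro h; rw [← h]; group
  refine Nat.card_congr ⟨fun a => ⟨a.1.1 * s, ?_, (hα a.1).1 a.2⟩, fun x => ⟨⟨x.1 * s, H.mul_mem x.2.1 hs⟩, ?_⟩, ?_, ?_⟩
  · intro h
    exact hs (by simpa using (bst G U W).mul_mem ((bst G U W).inv_mem a.1.2) h)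
  · rw [hα]
    change (x.1 * s * s) * (x.1 * s * s) = 1
    rw [mul_assoc x.1, hss, mul_one, x.2.2]
  · intro a
    ext
    change a.1.1 * s * s = a.1.1
    rw [mul_assoc, hss, mul_one]
  · intro x
    ext
    change x.1 * s * s = x.1
    rw [mul_assoc, hss, mul_one]

/-- the block stabiliser has orbits of length `|A| / 2` on a block -/
theorem card_orbit (H : TwoBlk G U W h) {u : V} (hu : u ∈ U) (hu0 : u ≠ 0) :
    Nat.card (orbit (bst G U W) u) * 2 = Nat.card (bst G U W) := by
  have h1 := Nat.card_congr (MulAction.orbitProdStabilizerEquivGroup (bst G U W) u)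
  rw [Nat.card_prod] at h1
  rw [← h1]
  congr 1
  have h2 : Nat.card (stabilizer G u) = 2 := (H.half u hu0).trans H.h_eq
  rw [← h2]
  refine Nat.card_congr ⟨fun a => ⟨⟨a.1, H.stab_le hu hu0 a.2⟩, a.2⟩, fun a => ⟨a.1.1, a.2⟩, fun a => rfl, fun a => rfl⟩

theorem orbit_sub (_H : TwoBlk G U W h) {u : V} (hu : u ∈ U) (hu0 : u ≠ 0) :
    orbit (bst G U W) u ⊆ {x | x ∈ U ∧ x ≠ 0} := by
  rintro _ ⟨a, rfl⟩
  refine ⟨(a.2.1 u).2 hu, ?_⟩
  change a.1 • u ≠ 0
  rw [Ne, smul_eq_zero_iff_eq]
  exact hu0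

theorem card_nz : Nat.card {x : V | x ∈ U ∧ x ≠ 0} + 1 = Nat.card U := by
  classical
  have := Fintype.ofFinite V
  have e : {x : V | x ∈ U ∧ x ≠ 0} = (U : Set V) \ {0} := by
    ext x; simp
  rw [Nat.card_coe_set_eq, e, Set.ncard_sdiff_singleton_add_one]
  · rfl
  · exact U.zero_mem

/-- **Two blocks: summary.** -/
theorem final (H : TwoBlk G U W h) : ∃ (R : ℕ) (α : (bst G U W) ≃* (bst G U W)), R ^ 2 ≤ Nat.card U ∧
    Nat.card U ≤ R + Nat.card {a : bst G U W // α a = a⁻¹} ∧
    ((∀ u ∈ U, ∀ u' ∈ U, u ≠ 0 → u' ≠ 0 → ∃ a ∈ bst G U W, a • u = u') ∧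
      Nat.card (bst G U W) + 2 = 2 * Nat.card U ∨ Nat.card (bst G U W) + 1 ≤ Nat.card U) := by
  obtain ⟨u, hu, hu0⟩ := H.exU
  obtain ⟨t, ht1, -, htu, -⟩ := H.exists_t hu0
  have h1 := H.fix_sq_le hu hu0 ht1 htu
  have h2 := H.card_le_inv hu hu0 ht1 htu
  have hU1 : 1 < Nat.card U := by
    have : Nontrivial U := ⟨⟨⟨u, hu⟩, 0, fun h => hu0 (congrArg Subtype.val h)⟩⟩
    exact Finite.one_lt_card
  set R := Nat.card (Fx V t ⊓ W : AddSubgroup V)
  rw [← H.card_eq] at h1 h2
  obtain ⟨s, hs, hss⟩ : ∃ s : G, s ∉ bst G U W ∧ s * s = 1 := by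
    by_contra hc
    push Not at hc
    have : IsEmpty {s : G // s ∉ bst G U W ∧ s * s = 1} := ⟨fun s => hc s.1 s.2.1 s.2.2⟩
    rw [Nat.card_of_isEmpty (α := {s : G // s ∉ bst G U W ∧ s * s = 1})] at h2
    nlinarith
  obtain ⟨α, hα⟩ := H.inverted hs hss
  refine ⟨R, α, h1, by rw [hα]; exact h2, ?_⟩
  by_cases htr : ∀ u ∈ U, ∀ u' ∈ U, u ≠ 0 → u' ≠ 0 → ∃ a ∈ bst G U W, a • u = u'
  · left
    refine ⟨htr, ?_⟩
    have e : orbit (bst G U W) u = {x | x ∈ U ∧ x ≠ 0} := by
      refine subset_antisymm (H.orbit_sub hu hu0) ?_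
      rintro x ⟨hx, hx0⟩
      obtain ⟨a, ha, rfl⟩ := htr u hu x hx hu0 hx0
      exact ⟨⟨a, ha⟩, rfl⟩
    have h3 := H.card_orbit hu hu0
    have h4 := card_nz (U := U)
    rw [← h3, e, ← h4]
    ring
  · right
    push Not at htr
    obtain ⟨x, hx, y, hy, hx0, hy0, hxy⟩ := htr
    have hd : Disjoint (orbit (bst G U W) x) (orbit (bst G U W) y) := by
      rw [Set.disjoint_left]
      rintro _ ⟨a, rfl⟩ ⟨b, hb⟩
      apply hxy (b⁻¹ * a).1 (b⁻¹ * a).2
      change b.1 • y = a.1 • x at hb
      change (b.1⁻¹ * a.1) • x = y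
      rw [mul_smul, ← hb, inv_smul_smul]
    have h3 : Nat.card (orbit (bst G U W) x ∪ orbit (bst G U W) y : Set V) =
        Nat.card (orbit (bst G U W) x) + Nat.card (orbit (bst G U W) y) := by
      rw [Nat.card_coe_set_eq, Nat.card_coe_set_eq, Nat.card_coe_set_eq]
      exact Set.ncard_union_eq hd (Set.toFinite _) (Set.toFinite _)
    have h4 : Nat.card (orbit (bst G U W) x ∪ orbit (bst G U W) y : Set V) ≤ Nat.card {x : V | x ∈ U ∧ x ≠ 0} := by
      apply Nat.card_mono (Set.toFinite _)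
      exact Set.union_subset (H.orbit_sub hx hx0) (H.orbit_sub hy hy0)
    have h5 := H.card_orbit hx hx0
    have h6 := H.card_orbit hy hy0
    have h7 := card_nz (U := U)
    omega

end TwoBlk

end Cfsg.Agent.H960.HT
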