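import Cfsg.Agent.H960.HT.Two
import Cfsg.Agent.H960.HT.Res
import Cfsg.Agent.H828.HT.Basic

/-! Two blocks: the contradiction for insoluble coprime half-transitive groups (with Hering's theorem as a
hypothesis `HerHyp`). -/

set_option autoImplicit false

namespace Cfsg.Agent.H960.HT

open MulAction Cfsg.Agent.H828.HT

universe u

/-- Hering's theorem for insoluble transitive linear groups of order prime to `p` (from S3695). -/
def HerHyp : Prop := ∀ (p : ℕ) [Fact p.Prime] (U : Type u) [AddCommGroup U] [Module (ZMod p) U] [Finite U]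
    [Nontrivial U] (H : Subgroup (Equiv.Perm U)), (∀ h ∈ H, ∀ v w : U, h (v + w) = h v + h w) →
    (∀ v w : U, v ≠ 0 → w ≠ 0 → ∃ h ∈ H, h v = w) → ¬ p ∣ Nat.card H → ¬ Group.IsSolvable H →
    Module.finrank (ZMod p) U = 2 ∧ (p = 11 ∨ p = 19 ∨ p = 29 ∨ p = 59) ∧
      ∃ N : Subgroup H, N.Normal ∧ Nonempty (N ≃* Matrix.SpecialLinearGroup (Fin 2) (ZMod 5))

/-- `G` acts irreducibly. -/
def Irr {p : ℕ} [Fact p.Prime] {V : Type u} [AddCommGroup V] [Module (ZMod p) V]
    (G : Subgroup (V ≃ₗ[ZMod p] V)) : Prop :=
  ∀ W : Submodule (ZMod p) V, (∀ g ∈ G, ∀ v ∈ W, g v ∈ W) → W = ⊥ ∨ W = ⊤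

variable {p : ℕ} [Fact p.Prime] {V : Type u} [AddCommGroup V] [Module (ZMod p) V] [Finite V]

theorem two_false (hHer : HerHyp.{u}) (hp2 : p ≠ 2) {G : Subgroup (V ≃ₗ[ZMod p] V)} {h : ℕ} (hh : Half G h)
    (h2 : 2 ≤ h) (hG : ¬ p ∣ Nat.card G) (hirr : Irr G) (hins : ¬ Group.IsSolvable G)
    {U W : Submodule (ZMod p) V} (hc : IsCompl U W) (hU : U ≠ ⊥) (hW : W ≠ ⊥)
    (hperm : ∀ g ∈ G, ((∀ u ∈ U, g u ∈ U) ∧ (∀ w ∈ W, g w ∈ W)) ∨
      ((∀ u ∈ U, g u ∈ W) ∧ (∀ w ∈ W, g w ∈ U)))
    (hswap : ∃ g ∈ G, (∀ u ∈ U, g u ∈ W) ∧ (∀ w ∈ W, g w ∈ U)) : False := by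
  classical
  have hp3 : 3 ≤ p := by
    have := (Fact.out : p.Prime).two_le
    omega
  have H : TwoBlk G U.toAddSubgroup W.toAddSubgroup h :=
    { odd := by
        rw [card_eq_pow (p := p)]
        exact ((Fact.out : p.Prime).odd_of_ne_two hp2).pow
      half := hh
      h2 := h2
      compl := by
        refine ⟨?_, ?_⟩
        · rw [AddSubgroup.disjoint_def]
          intro x hx hx'
          exact (Submodule.disjoint_def.1 hc.disjoint) x hx hx'
        · rw [codisjoint_iff, eq_top_iff]
          intro x _
          have : x ∈ U ⊔ W := by rw [hc.sup_eq_top]; trivial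
          obtain ⟨u, hu, w, hw, rfl⟩ := Submodule.mem_sup.1 this
          exact AddSubgroup.mem_sup.2 ⟨u, hu, w, hw, rfl⟩
      nbU := by
        intro h
        apply hU
        rw [eq_bot_iff]
        intro x hx
        have : x ∈ U.toAddSubgroup := hx
        rw [h] at this
        exact this
      nbW := by
        intro h
        apply hW
        rw [eq_bot_iff]
        intro x hx
        have : x ∈ W.toAddSubgroup := hx
        rw [h] at this
        exact this
      perm := fun g => hperm g.1 g.2
      swap := by
        obtain ⟨g, hg, h⟩ := hswap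
        exact ⟨⟨g, hg⟩, h⟩
      irr := by
        intro X hX
        rcases hirr (AddSubgroup.toZModSubmodule p X) (fun g hg v hv => hX ⟨g, hg⟩ v hv) with h | h
        · left
          rw [eq_bot_iff]
          intro x hx
          have : x ∈ AddSubgroup.toZModSubmodule p X := hx
          rw [h] at this
          exact this
        · right
          rw [eq_top_iff]
          intro x _
          have : x ∈ AddSubgroup.toZModSubmodule p X := by rw [h]; trivial
          exact this }
  have hfin := H.final
  set A : Subgroup G := bst G U.toAddSubgroup W.toAddSubgroup with hA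
  set q : ℕ := Nat.card U.toAddSubgroup with hq
  obtain ⟨R, α, hR, hcard, hcase⟩ := hfin
  -- `A` is insoluble
  have hAn : A.Normal := by
    constructor
    intro a ha g
    by_cases hg : g ∈ A
    · exact A.mul_mem (A.mul_mem hg ha) (A.inv_mem hg)
    · have hgi : g⁻¹ ∉ A := fun h => hg (by simpa using A.inv_mem h)
      refine H.mul_mem ?_ hgi
      intro h
      exact hg (by simpa using A.mul_mem h (A.inv_mem ha))
  have hAins : ¬ Group.IsSolvable A := by
    intro hs
    apply hins
    have h1 : Group.IsSolvable (G ⧸ A) := by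
      refine Group.isSolvable_of_comm ?_
      have key : ∀ x : G ⧸ A, ∀ y : G ⧸ A, x = 1 ∨ y = 1 ∨ x * y = 1 := by
        intro x y
        obtain ⟨x, rfl⟩ := QuotientGroup.mk_surjective x
        obtain ⟨y, rfl⟩ := QuotientGroup.mk_surjective y
        by_cases hx : x ∈ A
        · exact Or.inl ((QuotientGroup.eq_one_iff x).2 hx)
        by_cases hy : y ∈ A
        · exact Or.inr (Or.inl ((QuotientGroup.eq_one_iff y).2 hy))
        right; right
        rw [← QuotientGroup.mk_mul]
        exact (QuotientGroup.eq_one_iff _).2 (H.mul_mem hx hy)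
      intro a b
      rcases key a b with h | h | h
      · rw [h, one_mul, mul_one]
      · rw [h, one_mul, mul_one]
      · rw [h]
        rw [mul_eq_one_iff_eq_inv] at h
        rw [h, mul_inv_cancel]
    refine Group.isSolvable_of_ker_le_range A.subtype (QuotientGroup.mk' A) ?_
    rw [QuotientGroup.ker_mk', Subgroup.range_subtype]
  have h60 : 60 ≤ Nat.card A := by
    by_contra hlt
    push Not at hlt
    exact hAins (BpAlt.solvable_of_lt _ A rfl hlt)
  rcases hcase with ⟨htr, hcA⟩ | hcA
  · -- transitive case
    -- the permutation group on `U`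
    let f : A →* Equiv.Perm U :=
      { toFun := fun a =>
          { toFun := fun u => ⟨a.1.1 u.1, (a.2.1 u.1).2 u.2⟩
            invFun := fun u => ⟨(a.1⁻¹).1 u.1, ((A.inv_mem a.2).1 u.1).2 u.2⟩
            left_inv := by
              intro u
              apply Subtype.ext
              change (a.1⁻¹ * a.1) • u.1 = u.1
              rw [inv_mul_cancel, one_smul]
            right_inv := by
              intro u
              apply Subtype.ext
              change (a.1 * a.1⁻¹) • u.1 = u.1
              rw [mul_inv_cancel, one_smul] }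
        map_one' := by ext u; rfl
        map_mul' := by intro a b; ext u; rfl }
    have hker : Group.IsSolvable f.ker := by
      refine Group.isSolvable_of_comm ?_
      have key : ∀ x : f.ker, ∀ u ∈ U.toAddSubgroup, x.1.1 • u = u := by
        intro x u hu
        have h1 : f x.1 = 1 := x.2
        have h2 := congrArg (fun e : Equiv.Perm U => (e ⟨u, hu⟩).1) h1
        exact h2
      intro a b
      rcases H.kern (key a) (key b) with h | h | h
      · have : a = 1 := Subtype.ext (Subtype.ext h)
        rw [this, one_mul, mul_one]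
      · have : b = 1 := Subtype.ext (Subtype.ext h)
        rw [this, one_mul, mul_one]
      · have : a = b := Subtype.ext (Subtype.ext h)
        rw [this]
    have hins2 : ¬ Group.IsSolvable f.range := by
      intro hs
      apply hAins
      refine Group.isSolvable_of_ker_le_range f.ker.subtype f.rangeRestrict ?_
      rw [Subgroup.range_subtype, MonoidHom.ker_rangeRestrict]
    have hUnt : Nontrivial U := Submodule.nontrivial_iff_ne_bot.2 hU
    obtain ⟨hfr, hpp, N, hN, hNe⟩ := hHer p U f.range (by
        rintro _ ⟨a, rfl⟩ v w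
        exact Subtype.ext (map_add a.1.1 v.1 w.1)) (by
        intro v w hv hw
        obtain ⟨a, ha, hav⟩ := htr v.1 v.2 w.1 w.2 (fun h => hv (Subtype.ext h)) (fun h => hw (Subtype.ext h))
        exact ⟨f ⟨a, ha⟩, ⟨_, rfl⟩, Subtype.ext hav⟩) (by
        intro hd
        exact hG ((hd.trans (Subgroup.card_range_dvd f)).trans (Subgroup.card_subgroup_dvd_card A))) hins2
    have hqp : q = p ^ 2 := by
      have : Nat.card U = p ^ 2 := by rw [card_eq_pow (p := p), hfr]
      exact this
    have hN120 : Nat.card N = 120 := by
      obtain ⟨e⟩ := hNe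
      rw [Nat.card_congr e.toEquiv, Nat.card_eq_fintype_card]
      decide +kernel
    have hidx : N.index < 60 := by
      have h1 := Subgroup.card_mul_index N
      have h3 : Nat.card f.range ≤ Nat.card A := Nat.card_le_card_of_surjective f.rangeRestrict f.rangeRestrict_surjective
      rw [hN120] at h1
      rcases hpp with rfl | rfl | rfl | rfl <;> omega
    have h15 := resid_bound f.rangeRestrict f.rangeRestrict_surjective (by rw [MonoidHom.ker_rangeRestrict]; exact hker)
      hAins N hNe hidx α
    set I := Nat.card {a : A // α a = a⁻¹}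
    have hRp : R ≤ p := by
      rw [hqp] at hR
      exact (Nat.pow_le_pow_iff_left (by norm_num)).1 hR
    rcases hpp with rfl | rfl | rfl | rfl <;> omega
  · -- intransitive case
    have hcom := comm_of_three_quarters α (by
      set I := Nat.card {a : A // α a = a⁻¹}
      by_contra hle
      push Not at hle
      have h1 : 4 * (q - R) ≤ 3 * Nat.card A := by omega
      nlinarith)
    exact hAins (Group.isSolvable_of_comm hcom)

end Cfsg.Agent.H960.HT
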