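import Cfsg.Agent.H960.HT.Imp

/-! Two blocks: the block stabiliser is transitive on the block, `|G| = 4 (|U| - 1)`. No insolubility. -/

set_option autoImplicit false
set_option linter.unusedSectionVars false

namespace Cfsg.Agent.H960.HT

open MulAction Cfsg.Agent.H828.HT

universe u

namespace TwoBlk

variable {V : Type*} [AddCommGroup V] {G : Type*} [Group G] [DistribMulAction G V] [FaithfulSMul G V]
  [Finite V] [Finite G] {U W : AddSubgroup V} {h : ℕ}

theorem mem_fix_or (H : TwoBlk G U W h) {u : V} (hu : u ∈ U) (hu0 : u ≠ 0) {t : G} (ht1 : t ≠ 1)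
    (htu : t • u = u) {w : V} (hw : w ∈ W) (_hw0 : w ≠ 0) : t • w = w ∨ ∃ g : G, g • u = w := by
  have hv : u + w ≠ 0 := by
    intro h
    have : u ∈ W := by
      rw [eq_neg_of_add_eq_zero_left h]
      exact W.neg_mem hw
    exact hu0 (H.disj hu this)
  obtain ⟨s, hs1, hss, hsv, -⟩ := H.exists_t hv
  rcases H.perm' s with hsA | hsw
  · left
    have h3 : s • u - u ∈ U := U.sub_mem ((hsA.1 u).2 hu) hu
    have h4 : s • u - u = w - s • w := by
      rw [smul_add] at hsv
      rw [sub_eq_sub_iff_add_eq_add, hsv, add_comm]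
    have h5 : s • u - u ∈ W := by rw [h4]; exact W.sub_mem hw ((hsA.2 w).2 hw)
    have h6 := H.disj h3 h5
    have h7 : s • u = u := sub_eq_zero.1 h6
    rw [h6] at h4
    have h8 : s • w = w := (sub_eq_zero.1 h4.symm).symm
    have h9 := H.uniq_t hu0 h7 htu hs1 ht1
    rw [← h9]; exact h8
  · right
    refine ⟨s, ?_⟩
    have h3 : s • u - w ∈ W := W.sub_mem (hsw.1 u hu) hw
    have h4 : s • u - w = u - s • w := by
      rw [smul_add] at hsv
      rw [sub_eq_sub_iff_add_eq_add, hsv, add_comm]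
    have h5 : s • u - w ∈ U := by rw [h4]; exact U.sub_mem hu (hsw.2 w hw)
    exact sub_eq_zero.1 (H.disj h5 h3)

theorem orbit_W (H : TwoBlk G U W h) {u : V} (hu : u ∈ U) (hu0 : u ≠ 0) {w : V} (hw : w ∈ W) (hw0 : w ≠ 0) :
    ∃ g : G, g • u = w := by
  by_contra hcon
  obtain ⟨t, ht1, -, htu, -⟩ := H.exists_t hu0
  let X : AddSubgroup V := AddSubgroup.closure {x | ∃ a ∈ bst G U W, a • w = x}
  have hX1 : ∀ x ∈ X, t • x = x ∧ x ∈ W := by
    intro x hx
    have : X ≤ Fx V t ⊓ W := by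
      rw [AddSubgroup.closure_le]
      rintro _ ⟨a, ha, rfl⟩
      refine ⟨?_, (ha.2 w).2 hw⟩
      have hne : a • w ≠ 0 := by rwa [Ne, smul_eq_zero_iff_eq]
      rcases H.mem_fix_or hu hu0 ht1 htu ((ha.2 w).2 hw) hne with h1 | ⟨g, hg⟩
      · exact h1
      · exfalso
        exact hcon ⟨a⁻¹ * g, by rw [mul_smul, hg, inv_smul_smul]⟩
    exact this hx
  rcases H.symm.irrU X (fun x hx => (hX1 x hx).2) (by
    intro a ha x hx
    rw [bst_symm] at ha
    refine AddSubgroup.closure_induction (p := fun x _ => a • x ∈ X) ?_ ?_ ?_ ?_ hx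
    · rintro _ ⟨b, hb, rfl⟩
      exact AddSubgroup.subset_closure ⟨a * b, (bst G U W).mul_mem ha hb, mul_smul a b w⟩
    · rw [smul_zero]; exact X.zero_mem
    · intro x y _ _ hx hy
      rw [smul_add]; exact X.add_mem hx hy
    · intro x _ hx
      rw [smul_neg]; exact X.neg_mem hx) with hb | ht
  · have : w ∈ X := AddSubgroup.subset_closure ⟨1, (bst G U W).one_mem, one_smul _ w⟩
    rw [hb] at this
    exact hw0 this
  · apply hu0
    refine H.symm.kern_fpf (z := t) ?_ ht1 hu htu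
    intro x hx
    rw [← ht] at hx
    exact (hX1 x hx).1

/-- the block stabiliser is transitive on the non-zero vectors of a block -/
theorem trans (H : TwoBlk G U W h) {u u' : V} (hu : u ∈ U) (hu' : u' ∈ U) (hu0 : u ≠ 0) (hu0' : u' ≠ 0) :
    ∃ a ∈ bst G U W, a • u = u' := by
  obtain ⟨s, hs⟩ := H.swap
  have hsn : s ∉ bst G U W := (H.not_mem_iff s).2 hs
  obtain ⟨g, hg⟩ := H.orbit_W hu hu0 (hs.1 u' hu') (by rwa [Ne, smul_eq_zero_iff_eq])
  refine ⟨s⁻¹ * g, ?_, by rw [mul_smul, hg, inv_smul_smul]⟩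
  rcases H.perm' (s⁻¹ * g) with h1 | h1
  · exact h1
  · exfalso
    have h2 := h1.1 u hu
    rw [mul_smul, hg, inv_smul_smul] at h2
    exact hu0' (H.disj hu' h2)

theorem card_bst (H : TwoBlk G U W h) : Nat.card (bst G U W) + 2 = 2 * Nat.card U := by
  obtain ⟨u, hu, hu0⟩ := H.exU
  have e : orbit (bst G U W) u = {x | x ∈ U ∧ x ≠ 0} := by
    refine subset_antisymm (H.orbit_sub hu hu0) ?_
    rintro x ⟨hx, hx0⟩
    obtain ⟨a, ha, rfl⟩ := H.trans hu hx hu0 hx0
    exact ⟨⟨a, ha⟩, rfl⟩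
  have h3 := H.card_orbit hu hu0
  have h4 := card_nz (U := U)
  rw [← h3, e, ← h4]
  ring

theorem index_bst (H : TwoBlk G U W h) : (bst G U W).index = 2 := by
  rw [Subgroup.index_eq_two_iff]
  obtain ⟨s, hs⟩ := H.swap
  refine ⟨s, fun b => ?_⟩
  have hsn : s ∉ bst G U W := (H.not_mem_iff s).2 hs
  by_cases hb : b ∈ bst G U W
  · right
    refine ⟨hb, fun h => hsn ?_⟩
    simpa using (bst G U W).mul_mem ((bst G U W).inv_mem hb) h
  · left
    exact ⟨H.mul_mem hb hsn, hb⟩

theorem card_G (H : TwoBlk G U W h) : Nat.card G + 4 = 4 * Nat.card U := by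
  have h1 := Subgroup.card_mul_index (bst G U W)
  rw [H.index_bst] at h1
  have h2 := H.card_bst
  omega

end TwoBlk

section sys

variable {p : ℕ} [Fact p.Prime] {V : Type u} [AddCommGroup V] [Module (ZMod p) V] [Finite V]
  {G : Subgroup (V ≃ₗ[ZMod p] V)} {B : Set (Submodule (ZMod p) V)} {h : ℕ}

theorem twoBlk_of (hp2 : p ≠ 2) (hh : Half G h) (h2 : 2 ≤ h) (hirr : Irr G)
    {U W : Submodule (ZMod p) V} (hc : IsCompl U W) (hU : U ≠ ⊥) (hW : W ≠ ⊥)
    (hperm : ∀ g ∈ G, ((∀ u ∈ U, g u ∈ U) ∧ (∀ w ∈ W, g w ∈ W)) ∨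
      ((∀ u ∈ U, g u ∈ W) ∧ (∀ w ∈ W, g w ∈ U)))
    (hswap : ∃ g ∈ G, (∀ u ∈ U, g u ∈ W) ∧ (∀ w ∈ W, g w ∈ U)) :
    TwoBlk G U.toAddSubgroup W.toAddSubgroup h :=
  { odd := by
      rw [card_eq_pow (p := p)]
      exact ((Fact.out : p.Prime).odd_of_ne_two hp2).pow
    half := hh
    h2 := h2
    compl := by
      refine ⟨?_, ?_⟩
      · rw [AddSubgroup.disjoint_def]
        intro x hx hx'
        exact (Submodule.disjoint_def.1 hc.disjoint) x hx hx'
      · rw [codisjoint_iff, eq_top_iff]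
        intro x _
        have : x ∈ U ⊔ W := by rw [hc.sup_eq_top]; trivial
        obtain ⟨u, hu, w, hw, rfl⟩ := Submodule.mem_sup.1 this
        exact AddSubgroup.mem_sup.2 ⟨u, hu, w, hw, rfl⟩
    nbU := by
      intro h
      apply hU
      rw [eq_bot_iff]
      intro x hx
      have : x ∈ U.toAddSubgroup := hx
      rw [h] at this
      exact this
    nbW := by
      intro h
      apply hW
      rw [eq_bot_iff]
      intro x hx
      have : x ∈ W.toAddSubgroup := hx
      rw [h] at this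
      exact this
    perm := fun g => hperm g.1 g.2
    swap := by
      obtain ⟨g, hg, h⟩ := hswap
      exact ⟨⟨g, hg⟩, h⟩
    irr := by
      intro X hX
      rcases hirr (AddSubgroup.toZModSubmodule p X) (fun g hg v hv => hX ⟨g, hg⟩ v hv) with h | h
      · left
        rw [eq_bot_iff]
        intro x hx
        have : x ∈ AddSubgroup.toZModSubmodule p X := hx
        rw [h] at this
        exact this
      · right
        rw [eq_top_iff]
        intro x _
        have : x ∈ AddSubgroup.toZModSubmodule p X := by rw [h]; trivial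
        exact this }

theorem Sys.twoBlk {U W : Submodule (ZMod p) V} (H : Sys G {U, W}) (hUW : U ≠ W) (hp2 : p ≠ 2) (hh : Half G h)
    (h2 : 2 ≤ h) (hirr : Irr G) : TwoBlk G U.toAddSubgroup W.toAddSubgroup h ∧ IsCompl U W := by
  have hUB : U ∈ ({U, W} : Set (Submodule (ZMod p) V)) := Or.inl rfl
  have hWB : W ∈ ({U, W} : Set (Submodule (ZMod p) V)) := Or.inr rfl
  have hcompl : IsCompl U W := by
    refine ⟨H.ind.pairwiseDisjoint hUB hWB hUW, ?_⟩
    rw [codisjoint_iff]
    have := H.iSup_top hirr subset_rfl H.nt.nonempty H.perm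
    rwa [sSup_pair] at this
  refine ⟨twoBlk_of hp2 hh h2 hirr hcompl (H.ne U hUB) (H.ne W hWB) ?_ ?_, hcompl⟩
  · intro g hg
    have hinj : Function.Injective (Submodule.map (g : V →ₗ[ZMod p] V)) := Submodule.map_injective_of_injective g.injective
    rcases H.perm g hg U hUB with h | h
    · left
      have h' : W.map (g : V →ₗ[ZMod p] V) = W := by
        rcases H.perm g hg W hWB with h'' | h''
        · exact absurd (hinj (h.trans h''.symm)) hUW
        · exact h''
      refine ⟨fun u hu => ?_, fun w hw => ?_⟩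
      · rw [← h]; exact ⟨u, hu, rfl⟩
      · rw [← h']; exact ⟨w, hw, rfl⟩
    · right
      have hh' : U.map (g : V →ₗ[ZMod p] V) = W := h
      have h' : W.map (g : V →ₗ[ZMod p] V) = U := by
        rcases H.perm g hg W hWB with h'' | h''
        · exact h''
        · exact absurd (hinj (hh'.trans (show W.map (g : V →ₗ[ZMod p] V) = W from h'').symm)) hUW
      refine ⟨fun u hu => ?_, fun w hw => ?_⟩
      · rw [← hh']; exact ⟨u, hu, rfl⟩
      · rw [← h']; exact ⟨w, hw, rfl⟩
  · obtain ⟨g, hg, hgU⟩ := H.trans hirr hUB hWB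
    have hinj : Function.Injective (Submodule.map (g : V →ₗ[ZMod p] V)) := Submodule.map_injective_of_injective g.injective
    have h' : W.map (g : V →ₗ[ZMod p] V) = U := by
      rcases H.perm g hg W hWB with h'' | h''
      · exact h''
      · exact absurd (hinj (hgU.trans (show W.map (g : V →ₗ[ZMod p] V) = W from h'').symm)) hUW
    refine ⟨g, hg, fun u hu => ?_, fun w hw => ?_⟩
    · rw [← hgU]; exact ⟨u, hu, rfl⟩
    · rw [← h']; exact ⟨w, hw, rfl⟩

/-- two blocks: `h = 2`, `|V| = r²`, `|G| = 4 (r - 1)` -/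
theorem Sys.two (H : Sys G B) (hB : B.ncard = 2) (hp2 : p ≠ 2) (hh : Half G h) (h2 : 2 ≤ h) (hirr : Irr G) :
    h = 2 ∧ ∃ r, Nat.card V = r ^ 2 ∧ Nat.card G = 4 * (r - 1) ∧ 3 ≤ r := by
  obtain ⟨U, W, hUW, rfl⟩ := Set.ncard_eq_two.1 hB
  obtain ⟨T, hc⟩ := H.twoBlk hUW hp2 hh h2 hirr
  refine ⟨T.h_eq, Nat.card U.toAddSubgroup, ?_, ?_, ?_⟩
  · have e := Nat.card_congr (Submodule.prodEquivOfIsCompl U W hc).toEquiv
    rw [Nat.card_prod] at e
    have h1 := T.card_eq
    have h2 : Nat.card U = Nat.card W := h1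
    have h3 : Nat.card U.toAddSubgroup = Nat.card U := rfl
    rw [h3, ← e, ← h2, sq]
  · have := T.card_G
    omega
  · have h1 : 1 < Nat.card U.toAddSubgroup := by
      obtain ⟨u, hu, hu0⟩ := T.exU
      have : Nontrivial U.toAddSubgroup := ⟨⟨⟨u, hu⟩, 0, fun h => hu0 (congrArg Subtype.val h)⟩⟩
      exact Finite.one_lt_card
    have h2 := odd_sub T.odd U.toAddSubgroup
    rcases h2 with ⟨k, hk⟩
    omega

end sys

end Cfsg.Agent.H960.HT
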